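import Groth.Agent.S4621
import Groth.Prelude.Def_MoreMor

/-!
# Connected components of fibres through a section
-/

universe u

open AlgebraicGeometry CategoryTheory Limits

namespace Groth.Agent.SecComp

variable {X Y X' Y' : Scheme.{u}}

/-- Connected components of a fibre as images of components of the scheme theoretic fibre. -/
theorem connectedComponentIn_fibre (f : X ⟶ Y) (y : Y) (w : ↥(f.fiber y)) :
    connectedComponentIn (f ⁻¹' {y}) (f.fiberι y w) = f.fiberι y '' connectedComponent w := by
  have hw : f.fiberι y w ∈ f ⁻¹' {y} := (f.range_fiberι y).le ⟨w, rfl⟩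
  rw [connectedComponentIn_eq_image hw]
  have : (⟨f.fiberι y w, hw⟩ : f ⁻¹' {y}) = f.fiberHomeo y w := Subtype.ext rfl
  rw [this]
  have h2 := (f.fiberHomeo y).image_connectedComponentIn (Set.mem_univ w)
  rw [Set.image_univ, (f.fiberHomeo y).surjective.range_eq, connectedComponentIn_univ,
    connectedComponentIn_univ] at h2
  rw [← h2, Set.image_image]
  rfl

theorem isConnected_connectedComponentIn {F : Set X} {x : X} (hx : x ∈ F) :
    _root_.IsConnected (connectedComponentIn F x) :=
  isConnected_connectedComponentIn_iff.mpr hx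

theorem geometricallyConnected_id (k : Type u) [Field k] :
    GeometricallyConnected (𝟙 (Spec (CommRingCat.of k))) := by
  refine ⟨fun K _ y Z fst snd h => ?_⟩
  haveI : IsIso snd := MorphismProperty.of_isPullback (P := MorphismProperty.isomorphisms Scheme) h
    (inferInstanceAs (IsIso (𝟙 _)))
  haveI : ConnectedSpace ↥(Spec (CommRingCat.of K)) :=
    { isPreconnected_univ := (Set.subsingleton_of_subsingleton).isPreconnected
      toNonempty := inferInstance }
  exact (inv snd).surjective.connectedSpace (inv snd).continuous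

/-- The component of a rational point stays connected after extending the field. -/
theorem isConnected_preimage_component {k K : Type u} [Field k] [Field K] [Algebra k K]
    {Z : Scheme.{u}} (π : Z ⟶ Spec (CommRingCat.of k)) (σ : Spec (CommRingCat.of k) ⟶ Z)
    (hσ : σ ≫ π = 𝟙 _) (pt₀ : ↥(Spec (CommRingCat.of k))) :
    _root_.IsConnected (pullback.fst π (Spec.map (CommRingCat.ofHom (algebraMap k K))) ⁻¹'
      connectedComponent (σ pt₀)) := by
  haveI := geometricallyConnected_id k
  exact Groth.Agent.S4621.result π (𝟙 _) σ hσ pt₀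

/-- A point of a fibre product of fields and a scheme, seen in a base change square. -/
theorem preimage_component_subset {k K : Type u} [Field k] [Field K] [Algebra k K] {Z W : Scheme.{u}}
    (π : Z ⟶ Spec (CommRingCat.of k)) (σ : Spec (CommRingCat.of k) ⟶ Z) (hσ : σ ≫ π = 𝟙 _)
    (pt₀ : ↥(Spec (CommRingCat.of k)))
    (a : pullback π (Spec.map (CommRingCat.ofHom (algebraMap k K))) ⟶ W) (F : Set W) (w₀ : W)
    (hw₀ : ∃ p, pullback.fst π (Spec.map (CommRingCat.ofHom (algebraMap k K))) p ∈
      connectedComponent (σ pt₀) ∧ a p = w₀) (hF : ∀ p, a p ∈ F)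
    (p : ↥(pullback π (Spec.map (CommRingCat.ofHom (algebraMap k K)))))
    (hp : pullback.fst π (Spec.map (CommRingCat.ofHom (algebraMap k K))) p ∈ connectedComponent (σ pt₀)) :
    a p ∈ connectedComponentIn F w₀ :=
  ((isConnected_preimage_component π σ hσ pt₀).image a
    a.continuous.continuousOn).isPreconnected.subset_connectedComponentIn
      (by obtain ⟨q, hq, hq'⟩ := hw₀; exact ⟨q, hq, hq'⟩)
      (by rintro _ ⟨q, -, rfl⟩; exact hF q) ⟨p, hp, rfl⟩

/-- The component through a section of a base change is the preimage of the component through the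
section. -/
theorem mem_component_iff (f : X ⟶ Y) (s : Y ⟶ X) (hs : s ≫ f = 𝟙 Y)
    (f' : X' ⟶ Y') (g' : X' ⟶ X) (g : Y' ⟶ Y) (hc : IsPullback g' f' f g)
    (s' : Y' ⟶ X') (hs' : s' ≫ f' = 𝟙 Y') (hs'g : s' ≫ g' = g ≫ s) (y' : Y') :
    connectedComponentIn (f' ⁻¹' {y'}) (s' y') =
      g' ⁻¹' connectedComponentIn (f ⁻¹' {g y'}) (s (g y')) ∩ f' ⁻¹' {y'} := by
  have hfs : f' (s' y') = y' := by rw [← Scheme.Hom.comp_apply, hs']; rfl
  apply subset_antisymm
  · refine Set.subset_inter ?_ (connectedComponentIn_subset _ _)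
    rw [← Set.image_subset_iff]
    refine ((isConnected_connectedComponentIn (F := f' ⁻¹' {y'}) hfs).image g'
      g'.continuous.continuousOn).isPreconnected.subset_connectedComponentIn
        ⟨s' y', mem_connectedComponentIn hfs, ?_⟩ ?_
    · rw [← Scheme.Hom.comp_apply, hs'g]; rfl
    · rintro _ ⟨z, hz, rfl⟩
      have hz' : f' z = y' := connectedComponentIn_subset (f' ⁻¹' {y'}) _ hz
      show f (g' z) = g y'
      rw [← Scheme.Hom.comp_apply, hc.w, Scheme.Hom.comp_apply, hz']
  · let k := Y.residueField (g y')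
    let σ : Spec (CommRingCat.of k) ⟶ f.fiber (g y') :=
      pullback.lift (Y.fromSpecResidueField (g y') ≫ s) (𝟙 _)
        (by rw [Category.assoc, hs, Category.comp_id, Category.id_comp])
    let pt₀ : ↥(Spec (CommRingCat.of k)) := IsLocalRing.closedPoint k
    have hσ : f.fiberι (g y') (σ pt₀) = s (g y') := by
      refine (Scheme.Hom.comp_apply σ (f.fiberι (g y')) pt₀).symm.trans ?_
      refine (congrArg (fun m => (m : _ ⟶ X) pt₀) (pullback.lift_fst _ _ _)).trans ?_
      exact (Scheme.Hom.comp_apply _ s pt₀).trans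
        (congrArg s (Scheme.fromSpecResidueField_apply _ _))
    let fy := f.fiberToSpecResidueField (g y')
    let i := Spec.map (g.residueFieldMap y')
    have h1 : IsPullback (pullback.fst fy i ≫ f.fiberι (g y')) (pullback.snd fy i) f
        (Y'.fromSpecResidueField y' ≫ g) := by
      rw [← g.SpecMap_residueFieldMap_fromSpecResidueField]
      exact (IsPullback.of_hasPullback fy i).paste_horiz
        (IsPullback.of_hasPullback f (Y.fromSpecResidueField (g y')))
    let a := hc.lift (pullback.fst fy i ≫ f.fiberι (g y'))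
      (pullback.snd fy i ≫ Y'.fromSpecResidueField y') (h1.w.trans (Category.assoc _ _ _).symm)
    have ha : IsPullback a (pullback.snd fy i) f' (Y'.fromSpecResidueField y') :=
      IsPullback.of_right (by rw [hc.lift_fst]; exact h1) (hc.lift_snd _ _ _) hc
    have hga : ∀ p, g' (a p) = f.fiberι (g y') (pullback.fst fy i p) := fun p => by
      rw [← Scheme.Hom.comp_apply, hc.lift_fst, Scheme.Hom.comp_apply]
    have hmem : ∀ z : X', f' z = y' → ∃ p, a p = z := fun z hz => by
      obtain ⟨p, hp, -⟩ := Scheme.exists_preimage_of_isPullback ha z (IsLocalRing.closedPoint _)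
        (by rw [hz, Scheme.fromSpecResidueField_apply])
      exact ⟨p, hp⟩
    have hP : ∀ p, pullback.fst fy i p ∈ connectedComponent (σ pt₀) ↔
        g' (a p) ∈ connectedComponentIn (f ⁻¹' {g y'}) (s (g y')) := fun p => by
      rw [hga, ← hσ, connectedComponentIn_fibre,
        (f.fiberι (g y')).isEmbedding.injective.mem_set_image]
    have hF : ∀ p, a p ∈ f' ⁻¹' {y'} := fun p => by
      show f' (a p) = y'
      rw [← Scheme.Hom.comp_apply, ha.w, Scheme.Hom.comp_apply, Scheme.fromSpecResidueField_apply]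
    rintro z ⟨hz, hzy⟩
    obtain ⟨q, hq⟩ := hmem _ hfs
    have hqm : pullback.fst fy i q ∈ connectedComponent (σ pt₀) := by
      refine (hP q).mpr ?_
      have e : g' (s' y') = s (g y') := by
        rw [← Scheme.Hom.comp_apply, hs'g, Scheme.Hom.comp_apply]
      rw [hq, e]
      refine mem_connectedComponentIn ?_
      show f (s _) = _
      rw [← Scheme.Hom.comp_apply, hs]; rfl
    obtain ⟨p, rfl⟩ := hmem z hzy
    exact @preimage_component_subset k (Y'.residueField y') _ _ (g.residueFieldMap y').hom.toAlgebra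
      _ _ fy σ (pullback.lift_snd _ _ _) pt₀ a _ _ ⟨q, hqm, hq⟩ hF p ((hP p).mpr hz)

theorem preimage_sectionComponents (f : X ⟶ Y) (s : Y ⟶ X) (hs : s ≫ f = 𝟙 Y)
    (f' : X' ⟶ Y') (g' : X' ⟶ X) (g : Y' ⟶ Y) (hc : IsPullback g' f' f g)
    (s' : Y' ⟶ X') (hs' : s' ≫ f' = 𝟙 Y') (hs'g : s' ≫ g' = g ≫ s) :
    MoreMor.sectionComponents f' s' = g' ⁻¹' MoreMor.sectionComponents f s := by
  ext x
  show x ∈ connectedComponentIn (f' ⁻¹' {f' x}) (s' (f' x)) ↔
    g' x ∈ connectedComponentIn (f ⁻¹' {f (g' x)}) (s (f (g' x)))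
  rw [mem_component_iff f s hs f' g' g hc s' hs' hs'g (f' x), ← Scheme.Hom.comp_apply g' f, hc.w,
    Scheme.Hom.comp_apply]
  exact ⟨fun h => h.1, fun h => ⟨h, rfl⟩⟩

end Groth.Agent.SecComp
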