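import Groth.Agent.SecComp.GeomCount
import Groth.Agent.SecComp.Basic

/-! # Geometric fibres near a point of the closure of a point -/

set_option autoImplicit false

universe u

open AlgebraicGeometry CategoryTheory Limits TopologicalSpace

namespace Groth.Agent.SecComp

variable {X Y : Scheme.{u}}

theorem exists_isOpen_image_inter {α β : Type*} [TopologicalSpace α] [TopologicalSpace β] {g : α → β}
    (hg : Topology.IsEmbedding g) {O C : Set β} (hO : IsOpen O) (hr : Set.range g = O ∩ C) {U : Set α}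
    (hU : IsOpen U) : ∃ O' : Set β, IsOpen O' ∧ g '' U = O' ∩ C := by
  obtain ⟨O', hO', rfl⟩ := hg.isInducing.isOpen_iff.mp hU
  exact ⟨O' ∩ O, hO'.inter hO, by rw [Set.image_preimage_eq_inter_range, hr, Set.inter_assoc]⟩

/-- An algebraically closed point over any point. -/
theorem exists_algClosed_point (S : Scheme.{u}) (s : S) : ∃ (L : Type u) (_ : Field L) (_ : IsAlgClosed L)
    (pt : Spec (CommRingCat.of L) ⟶ S), ∀ x, pt x = s := by
  let k : Type u := S.residueField s
  refine ⟨AlgebraicClosure k, inferInstance, inferInstance,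
    Spec.map (CommRingCat.ofHom (algebraMap k (AlgebraicClosure k))) ≫ S.fromSpecResidueField s, fun x => ?_⟩
  exact (Scheme.Hom.comp_apply _ _ x).trans (Scheme.fromSpecResidueField_apply _ _)

/-- A flat finitely presented model over a domain, near a point of the closure of a point. -/
theorem exists_model_closure (f : X ⟶ Y) [LocallyOfFiniteType f] [QuasiCompact f] (y : Y) :
    ∃ (A : CommRingCat.{u}) (_ : IsDomain A) (X' : Scheme.{u}) (u : X' ⟶ Spec A) (e : X' ⟶ X)
      (j : Spec A ⟶ Y), IsPullback e u f j ∧ IsPreimmersion j ∧ Flat u ∧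
      LocallyOfFinitePresentation u ∧ QuasiCompact u ∧ CompactSpace X' ∧
      (∃ O : Set Y, IsOpen O ∧ Set.range j = O ∩ closure {y}) ∧ j (genericPoint (Spec A)) = y := by
  obtain ⟨W, hW, hyW, -⟩ := exists_isAffineOpen_mem_and_subset (x := y) (U := ⊤) trivial
  obtain ⟨p, hp⟩ := hW.range_fromSpec.ge hyW
  let p' : PrimeSpectrum Γ(Y, W) := p
  let R₁ := CommRingCat.of (Γ(Y, W) ⧸ p'.asIdeal)
  let i₀ : Spec R₁ ⟶ Spec Γ(Y, W) := Spec.map (CommRingCat.ofHom (Ideal.Quotient.mk p'.asIdeal))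
  haveI : IsClosedImmersion i₀ := IsClosedImmersion.spec_of_surjective _ Ideal.Quotient.mk_surjective
  let j₀ : Spec R₁ ⟶ Y := i₀ ≫ hW.fromSpec
  haveI : IsPreimmersion j₀ := inferInstanceAs (IsPreimmersion (_ ≫ _))
  haveI : IsDomain R₁ := Ideal.Quotient.isDomain _
  have hr₀ : Set.range j₀ = (W : Set Y) ∩ closure {y} := by
    have h1 : Set.range i₀ = closure {p} := by
      exact ((range_comap_of_surjective _ _ Ideal.Quotient.mk_surjective).trans
        (by rw [Ideal.mk_ker]; exact (PrimeSpectrum.closure_singleton p').symm))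
    simp only [j₀, Scheme.Hom.comp_base, TopCat.coe_comp, Set.range_comp, h1]
    rw [hW.fromSpec.isEmbedding.closure_eq_preimage_closure_image, Set.image_singleton,
      Set.image_preimage_eq_inter_range, hW.range_fromSpec, hp, Set.inter_comm]
  have hgen₀ : j₀ (genericPoint (Spec R₁)) = y := by
    rw [genericPoint_eq_bot_of_affine]
    show hW.fromSpec (i₀ _) = y
    rw [← hp]
    congr 1
    refine PrimeSpectrum.ext ?_
    show (⊥ : Ideal (Γ(Y, W) ⧸ p'.asIdeal)).comap (Ideal.Quotient.mk p'.asIdeal) = p'.asIdeal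
    rw [← RingHom.ker_eq_comap_bot, Ideal.mk_ker]
  haveI : IrreducibleSpace ↥(Spec R₁) := inferInstance
  let g := pullback.snd f j₀
  haveI : LocallyOfFiniteType g :=
    MorphismProperty.of_isPullback (IsPullback.of_hasPullback f j₀) ‹LocallyOfFiniteType f›
  haveI : QuasiCompact g :=
    MorphismProperty.of_isPullback (IsPullback.of_hasPullback f j₀) ‹QuasiCompact f›
  obtain ⟨X', S, u, e, j₁, hc, hS, hSi, hj₁, hop, hη, hflat, hfp, hqc, hcs⟩ := Wt.GenFib.exists_model g
  let A := Γ(S, ⊤)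
  let j : Spec A ⟶ Y := S.isoSpec.inv ≫ j₁ ≫ j₀
  let u' : X' ⟶ Spec A := u ≫ S.isoSpec.hom
  have hc' : IsPullback (e ≫ pullback.fst f j₀) u' f j :=
    (hc.paste_horiz (IsPullback.of_hasPullback f j₀)).of_iso (Iso.refl _) (Iso.refl _) S.isoSpec
      (Iso.refl _) (by simp) (by simp [u']) (by simp) (by simp [j])
  haveI : IsDomain A := inferInstance
  haveI := hj₁
  have hsurj : Function.Surjective ⇑S.isoSpec.inv := (Scheme.homeoOfIso S.isoSpec.symm).surjective
  refine ⟨A, inferInstance, X', u', e ≫ pullback.fst f j₀, j, hc', inferInstance, inferInstance,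
    inferInstance, inferInstance, hcs, ?_, ?_⟩
  · obtain ⟨O', hO', hr⟩ := exists_isOpen_image_inter j₀.isEmbedding W.2 hr₀ hop
    refine ⟨O', hO', ?_⟩
    rw [← hr]
    simp only [j, Scheme.Hom.comp_base, TopCat.coe_comp, Set.range_comp]
    rw [hsurj.range_eq, Set.image_univ, Set.range_comp]
  · show j₀ (j₁ (S.isoSpec.inv (genericPoint (Spec A)))) = y
    rw [hη _ ?_, hgen₀]
    have := (genericPoint_spec (Spec A)).image S.isoSpec.inv.continuous
    rwa [Set.image_univ, hsurj.range_eq, closure_univ] at this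

/-- Over a relatively open neighbourhood, the geometric component counts agree with those at `y`. -/
theorem exists_nbhd_nGeom (f : X ⟶ Y) [LocallyOfFiniteType f] [QuasiCompact f] (y : Y) :
    ∃ V : Set Y, V ⊆ closure {y} ∧ y ∈ V ∧ IsOpen (Subtype.val ⁻¹' V : Set ↑(closure ({y} : Set Y))) ∧
      ∀ y' ∈ V, MoreMor.nGeomIrredComp f y' = MoreMor.nGeomIrredComp f y ∧
        MoreMor.nGeomConnComp f y' = MoreMor.nGeomConnComp f y := by
  obtain ⟨A, _, X', u, e, j, hc, hj, hfl, hfp, hqc, hcs, ⟨O₀, hO₀, hr⟩, hgen⟩ := exists_model_closure f y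
  let u₂ := pullback.snd u (toBase A)
  haveI : Flat u₂ := MorphismProperty.of_isPullback (IsPullback.of_hasPullback u (toBase A)) hfl
  haveI : LocallyOfFinitePresentation u₂ :=
    MorphismProperty.of_isPullback (IsPullback.of_hasPullback u (toBase A)) hfp
  haveI : QuasiCompact u₂ := MorphismProperty.of_isPullback (IsPullback.of_hasPullback u (toBase A)) hqc
  haveI : CompactSpace ↥(pullback u (toBase A)) := QuasiCompact.compactSpace_of_compactSpace u₂
  obtain ⟨V, ι, C, G, hηV, -, -, -, hV⟩ := exists_comp_cover u₂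
  obtain ⟨b, hb, hbV⟩ := exists_basicOpen_le A hηV
  have hηb : genericPoint (Spec A) ∈ PrimeSpectrum.basicOpen b := mem_basicOpen_of_ne_zero hb
  obtain ⟨O', hO', hV'⟩ := exists_isOpen_image_inter j.isEmbedding hO₀ hr (PrimeSpectrum.basicOpen b).isOpen
  have key : ∀ s ∈ PrimeSpectrum.basicOpen b, MoreMor.nGeomIrredComp f (j s) = ENat.card ι ∧
      MoreMor.nGeomConnComp f (j s) = ENat.card (Quot G) := by
    intro s hs
    obtain ⟨t, rfl⟩ := (surjective_toBase A).surj s
    obtain ⟨L, _, _, pt, hpt⟩ := exists_algClosed_point (Spec (AbsClosure A)) t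
    obtain ⟨hcov, hG⟩ := hV L pt fun x => by rw [hpt x]; exact hbV hs
    have h1 : IsPullback (pullback.fst u₂ pt ≫ pullback.fst u (toBase A) ≫ e) (pullback.snd u₂ pt) f
        (pt ≫ toBase A ≫ j) :=
      (IsPullback.of_hasPullback u₂ pt).paste_horiz ((IsPullback.of_hasPullback u (toBase A)).paste_horiz hc)
    have h2 : (pt ≫ toBase A ≫ j) (IsLocalRing.closedPoint L) = j (toBase A t) := by
      rw [Scheme.Hom.comp_apply, Scheme.Hom.comp_apply, hpt]
    let φ : ↥(pullback u₂ pt) ≃ₜ ↥(pullback f (pt ≫ toBase A ≫ j)) := Scheme.homeoOfIso h1.isoPullback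
    obtain ⟨e1, e2⟩ := nGeom_eq f (pt ≫ toBase A ≫ j)
    rw [h2, ← Wt.GenFib.encard_irreducibleComponents_of_homeomorph φ, hcov.encard_irreducibleComponents] at e1
    rw [h2, ← Wt.GenFib.card_connectedComponents_of_homeomorph φ, hcov.card_connectedComponents] at e2
    have hGeq : Meet (fun i => pullback.fst u₂ pt ⁻¹' C i) = G := funext₂ fun i k => propext (hG i k)
    rw [hGeq] at e2
    exact ⟨e1.symm, e2.symm⟩
  refine ⟨⇑j '' ((PrimeSpectrum.basicOpen b : Opens (PrimeSpectrum A)) : Set (PrimeSpectrum A)), ?_, ⟨_, hηb, hgen⟩, ?_, ?_⟩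
  · rw [hV']; exact Set.inter_subset_right
  · rw [hV', Set.preimage_inter, Subtype.coe_preimage_self, Set.inter_univ]
    exact hO'.preimage continuous_subtype_val
  · rintro _ ⟨s, hs, rfl⟩
    obtain ⟨a1, a2⟩ := key s hs
    obtain ⟨b1, b2⟩ := key _ hηb
    rw [hgen] at b1 b2
    exact ⟨a1.trans b1.symm, a2.trans b2.symm⟩

/-- Over a relatively open neighbourhood, the section components are clopen. -/
theorem exists_nbhd_isClopen (f : X ⟶ Y) (σ : Y ⟶ X) (hσ : σ ≫ f = 𝟙 Y) [LocallyOfFiniteType f]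
    [QuasiCompact f] (y : Y) :
    ∃ V : Set Y, V ⊆ closure {y} ∧ y ∈ V ∧ IsOpen (Subtype.val ⁻¹' V : Set ↑(closure ({y} : Set Y))) ∧
      IsClopen (Subtype.val ⁻¹' MoreMor.sectionComponents f σ : Set ↑(f ⁻¹' V)) := by
  obtain ⟨A, _, X', u, e, j, hc, hj, hfl, hfp, hqc, hcs, ⟨O₀, hO₀, hr⟩, hgen⟩ := exists_model_closure f y
  let u₂ := pullback.snd u (toBase A)
  haveI : Flat u₂ := MorphismProperty.of_isPullback (IsPullback.of_hasPullback u (toBase A)) hfl
  haveI : LocallyOfFinitePresentation u₂ :=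
    MorphismProperty.of_isPullback (IsPullback.of_hasPullback u (toBase A)) hfp
  haveI : QuasiCompact u₂ := MorphismProperty.of_isPullback (IsPullback.of_hasPullback u (toBase A)) hqc
  haveI : CompactSpace ↥(pullback u (toBase A)) := QuasiCompact.compactSpace_of_compactSpace u₂
  haveI := hj
  let σ₁ : Spec A ⟶ X' := hc.lift (j ≫ σ) (𝟙 _) (by rw [Category.assoc, hσ, Category.comp_id, Category.id_comp])
  have hσ₁ : σ₁ ≫ u = 𝟙 _ := hc.lift_snd _ _ _
  have hS₁ := preimage_sectionComponents f σ hσ u e j hc σ₁ hσ₁ (hc.lift_fst _ _ _)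
  let e₂ := pullback.fst u (toBase A)
  let σ₂ : Spec (AbsClosure A) ⟶ pullback u (toBase A) :=
    pullback.lift (toBase A ≫ σ₁) (𝟙 _) (by rw [Category.assoc, hσ₁, Category.comp_id, Category.id_comp])
  have hσ₂ : σ₂ ≫ u₂ = 𝟙 _ := pullback.lift_snd _ _ _
  have hS₂ := preimage_sectionComponents u σ₁ hσ₁ u₂ e₂ (toBase A) (IsPullback.of_hasPullback _ _) σ₂
    hσ₂ (pullback.lift_fst _ _ _)
  obtain ⟨V, ι, C, G, hηV, hCc, hι, hcovX, hV⟩ := exists_comp_cover u₂
  obtain ⟨i₀, hi₀⟩ := hcovX (σ₂ (genericPoint (Spec (AbsClosure A))))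
  have hi₀' : ∀ t, σ₂ t ∈ C i₀ := fun t =>
    ((genericPoint_specializes t).map σ₂.continuous).mem_closed (hCc i₀) hi₀
  obtain ⟨b, hb, hbV⟩ := exists_basicOpen_le A hηV
  have hηb : genericPoint (Spec A) ∈ PrimeSpectrum.basicOpen b := mem_basicOpen_of_ne_zero hb
  let I : Set ι := {i | Relation.EqvGen G i₀ i}
  let K : Set ι → Set ↥(pullback u (toBase A)) := fun J => ⋃ i ∈ J, C i
  have hK : ∀ J, IsClosed (K J) := fun J => (Set.toFinite J).isClosed_biUnion fun i _ => hCc i
  have key : ∀ z, toBase A (u₂ z) ∈ PrimeSpectrum.basicOpen b →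
      (z ∈ MoreMor.sectionComponents u₂ σ₂ ↔ z ∈ K I) ∧ (z ∈ K I → z ∉ K Iᶜ) := by
    intro z hz
    obtain ⟨L, _, _, pt, hpt⟩ := exists_algClosed_point (Spec (AbsClosure A)) (u₂ z)
    obtain ⟨hcov, hG⟩ := hV L pt fun x => by rw [hpt x]; exact hbV hz
    obtain ⟨w, hw⟩ := exists_pullback_point u₂ pt (z := z) (hpt _).symm
    let s₀ : Spec (CommRingCat.of L) ⟶ pullback u₂ pt := pullback.lift (pt ≫ σ₂) (𝟙 _)
      (by rw [Category.assoc, hσ₂, Category.comp_id, Category.id_comp])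
    have hS₃ := preimage_sectionComponents u₂ σ₂ hσ₂ (pullback.snd u₂ pt) (pullback.fst u₂ pt) pt
      (IsPullback.of_hasPullback _ _) s₀ (pullback.lift_snd _ _ _) (pullback.lift_fst _ _ _)
    let x₀ := s₀ (pullback.snd u₂ pt w)
    have hx₀ : x₀ ∈ pullback.fst u₂ pt ⁻¹' C i₀ := by
      show pullback.fst u₂ pt (s₀ _) ∈ C i₀
      rw [← Scheme.Hom.comp_apply, pullback.lift_fst, Scheme.Hom.comp_apply]
      exact hi₀' _
    have hcc : w ∈ MoreMor.sectionComponents (pullback.snd u₂ pt) s₀ ↔ w ∈ connectedComponent x₀ := by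
      show w ∈ connectedComponentIn _ x₀ ↔ _
      rw [show (pullback.snd u₂ pt) ⁻¹' {pullback.snd u₂ pt w} = Set.univ from
        Set.eq_univ_of_forall fun x => Subsingleton.elim _ _, connectedComponentIn_univ]
    rw [hS₃, Set.mem_preimage, hw, hcov.connectedComponent_eq_linked hx₀] at hcc
    have hGeq : Meet (fun i => pullback.fst u₂ pt ⁻¹' C i) = G := funext₂ fun i k => propext (hG i k)
    refine ⟨hcc.trans ?_, fun h1 h2 => ?_⟩
    · simp only [IsCompCover.linked, hGeq, K, I, Set.mem_iUnion, Set.mem_preimage, hw, Set.mem_setOf_eq]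
    · obtain ⟨i, hi, hzi⟩ := Set.mem_iUnion₂.mp h1
      obtain ⟨k, hk, hzk⟩ := Set.mem_iUnion₂.mp h2
      exact hk (Relation.EqvGen.trans _ _ _ hi (Relation.EqvGen.rel _ _
        ((hG i k).mp ⟨w, by show _ ∈ C i; rw [hw]; exact hzi, by show _ ∈ C k; rw [hw]; exact hzk⟩)))
  haveI := isIntegralHom_toBase A
  haveI : IsIntegralHom e₂ := MorphismProperty.of_isPullback (IsPullback.of_hasPullback u (toBase A)).flip inferInstance
  haveI := surjective_toBase A
  have hclosed : ∀ J, IsClosed (⇑e₂ '' K J) := fun J => e₂.isClosedMap _ (hK J)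
  have key₁ : ∀ x : X', u x ∈ PrimeSpectrum.basicOpen b →
      (x ∈ MoreMor.sectionComponents u σ₁ ↔ x ∈ ⇑e₂ '' K I) ∧
      (x ∉ MoreMor.sectionComponents u σ₁ ↔ x ∈ ⇑e₂ '' K Iᶜ) := by
    intro x hx
    have hmem : ∀ z, e₂ z = x → toBase A (u₂ z) ∈ PrimeSpectrum.basicOpen b := fun z hzx => by
      rw [← Scheme.Hom.comp_apply, ← pullback.condition, Scheme.Hom.comp_apply]
      exact hzx ▸ hx
    have hiff : ∀ z, e₂ z = x → (x ∈ MoreMor.sectionComponents u σ₁ ↔ z ∈ MoreMor.sectionComponents u₂ σ₂) :=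
      fun z hzx => by rw [hS₂, Set.mem_preimage, hzx]
    have hAll : ∀ z, z ∈ K I ∨ z ∈ K Iᶜ := fun z => by
      obtain ⟨i, hi⟩ := hcovX z
      by_cases h : i ∈ I
      · exact Or.inl (Set.mem_biUnion h hi)
      · exact Or.inr (Set.mem_biUnion (x := i) h hi)
    haveI : Surjective e₂ := MorphismProperty.of_isPullback (IsPullback.of_hasPullback u (toBase A)).flip inferInstance
    obtain ⟨z, hz⟩ := e₂.surjective x
    refine ⟨⟨fun h => ⟨z, (key z (hmem z hz)).1.mp ((hiff z hz).mp h), hz⟩, ?_⟩,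
      ⟨fun h => ⟨z, (hAll z).resolve_left fun hI => h ((hiff z hz).mpr ((key z (hmem z hz)).1.mpr hI)), hz⟩, ?_⟩⟩
    · rintro ⟨z', hz', hzx⟩
      exact (hiff z' hzx).mpr ((key z' (hmem z' hzx)).1.mpr hz')
    · rintro ⟨z', hz', hzx⟩ h
      exact (key z' (hmem z' hzx)).2 ((key z' (hmem z' hzx)).1.mp ((hiff z' hzx).mp h)) hz'
  haveI : IsPreimmersion e := MorphismProperty.of_isPullback hc.flip hj
  obtain ⟨K₁, hK₁, hK₁'⟩ := e.isEmbedding.isInducing.isClosed_iff.mp (hclosed I)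
  obtain ⟨K₂, hK₂, hK₂'⟩ := e.isEmbedding.isInducing.isClosed_iff.mp (hclosed Iᶜ)
  obtain ⟨O', hO', hV'⟩ := exists_isOpen_image_inter j.isEmbedding hO₀ hr (PrimeSpectrum.basicOpen b).isOpen
  refine ⟨⇑j '' ((PrimeSpectrum.basicOpen b : Opens (PrimeSpectrum A)) : Set (PrimeSpectrum A)), ?_, ⟨_, hηb, hgen⟩, ?_, ?_⟩
  · rw [hV']; exact Set.inter_subset_right
  · rw [hV', Set.preimage_inter, Subtype.coe_preimage_self, Set.inter_univ]
    exact hO'.preimage continuous_subtype_val
  · have hiff : ∀ x : X, f x ∈ ⇑j '' ((PrimeSpectrum.basicOpen b : Opens (PrimeSpectrum A)) : Set (PrimeSpectrum A)) →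
        (x ∈ MoreMor.sectionComponents f σ ↔ x ∈ K₁) ∧ (x ∉ MoreMor.sectionComponents f σ ↔ x ∈ K₂) := by
      rintro x ⟨s, hs, hsx⟩
      obtain ⟨x', hx', hx's⟩ := Scheme.exists_preimage_of_isPullback hc x s hsx.symm
      have := key₁ x' (hx's ▸ hs)
      rw [hS₁, Set.mem_preimage, hx', ← hK₁', ← hK₂', Set.mem_preimage, Set.mem_preimage, hx'] at this
      exact this
    constructor
    · rw [show (Subtype.val ⁻¹' MoreMor.sectionComponents f σ : Set ↑(f ⁻¹' (⇑j '' ((PrimeSpectrum.basicOpen b : Opens (PrimeSpectrum A)) : Set (PrimeSpectrum A))))) = Subtype.val ⁻¹' K₁ from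
        Set.ext fun x => (hiff x.1 x.2).1]
      exact hK₁.preimage continuous_subtype_val
    · rw [← isClosed_compl_iff, show (Subtype.val ⁻¹' MoreMor.sectionComponents f σ : Set ↑(f ⁻¹' (⇑j '' ((PrimeSpectrum.basicOpen b : Opens (PrimeSpectrum A)) : Set (PrimeSpectrum A)))))ᶜ =
          Subtype.val ⁻¹' K₂ from Set.ext fun x => (hiff x.1 x.2).2]
      exact hK₂.preimage continuous_subtype_val

end Groth.Agent.SecComp
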