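import Groth.Agent.SecComp.GeomComp
import Groth.Agent.FBase.ConnComp
import Groth.Prelude.Def_MoreMor
import Mathlib.RingTheory.Ideal.GoingUp
import Mathlib.FieldTheory.IsAlgClosed.AlgebraicClosure

/-! # Models near a point of the closure of a point, and component counts at geometric points -/

set_option autoImplicit false

universe u

open AlgebraicGeometry CategoryTheory Limits TopologicalSpace

namespace Groth.Agent.SecComp

variable {X Y : Scheme.{u}}

/-- Component counts of geometric fibres can be computed at any algebraically closed point. -/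
theorem nGeom_eq (f : X ⟶ Y) {L : Type u} [Field L] [IsAlgClosed L]
    (pt : Spec (CommRingCat.of L) ⟶ Y) :
    (irreducibleComponents ↥(pullback f pt)).encard =
        MoreMor.nGeomIrredComp f (pt (IsLocalRing.closedPoint L)) ∧
      ENat.card (ConnectedComponents ↥(pullback f pt)) =
        MoreMor.nGeomConnComp f (pt (IsLocalRing.closedPoint L)) := by
  have key : ∀ y, pt (IsLocalRing.closedPoint L) = y →
      (irreducibleComponents ↥(pullback f pt)).encard = MoreMor.nGeomIrredComp f y ∧
      ENat.card (ConnectedComponents ↥(pullback f pt)) = MoreMor.nGeomConnComp f y := by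
    intro y hy
    obtain ⟨ψ, hψ⟩ : ∃ ψ : Spec (CommRingCat.of L) ⟶ Spec (Y.residueField y),
        pt = ψ ≫ Y.fromSpecResidueField y := by
      subst hy
      exact ⟨_, ((Y.SpecToEquivOfField L).symm_apply_apply pt).symm⟩
    obtain ⟨φ, rfl⟩ := Spec.map_surjective ψ
    let k : Type u := Y.residueField y
    letI : Algebra k L := φ.hom.toAlgebra
    let ι : SeparableClosure k →ₐ[k] L := IsAlgClosed.lift
    letI : Algebra (SeparableClosure k) L := ι.toRingHom.toAlgebra
    haveI : IsScalarTower k (SeparableClosure k) L := IsScalarTower.of_algebraMap_eq' ι.comp_algebraMap.symm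
    let fy := f.fiberToSpecResidueField y
    let g : Spec (CommRingCat.of L) ⟶ Spec (Y.residueField y) := Spec.map φ
    have h2 : IsPullback (pullback.fst fy g ≫ f.fiberι y) (pullback.snd fy g) f pt := by
      rw [hψ]
      exact (IsPullback.of_hasPullback fy g).paste_horiz
        (IsPullback.of_hasPullback f (Y.fromSpecResidueField y))
    let e : ↥(pullback fy g) ≃ₜ ↥(pullback f pt) := Scheme.homeoOfIso h2.isoPullback
    rw [← Wt.GenFib.encard_irreducibleComponents_of_homeomorph e,
      ← Wt.GenFib.card_connectedComponents_of_homeomorph e]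
    refine ⟨(ENat.card_coe_set_eq _).symm.trans ((ENat.card_congr
      (FBase.ConnComp.irreducibleComponentsEquivBC (k := k) fy (L := SeparableClosure k)
        (Ω := L)).toEquiv.symm).trans (ENat.card_coe_set_eq _)), ?_⟩
    exact ENat.card_congr (Equiv.ofBijective _
      (FBase.ConnComp.connectedComponentsMap_bcMap_bijective (k := k) fy (L := SeparableClosure k) (Ω := L)))
  exact key _ rfl

/-- The integral closure of a domain in an algebraic closure of its fraction field. -/
noncomputable abbrev AbsClosure (A : CommRingCat.{u}) [IsDomain A] : CommRingCat.{u} :=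
  CommRingCat.of (integralClosure A (AlgebraicClosure (FractionRing A)))

instance (A : CommRingCat.{u}) [IsDomain A] : IsDomain (AbsClosure A) :=
  inferInstanceAs (IsDomain (integralClosure A (AlgebraicClosure (FractionRing A))))

variable (A : CommRingCat.{u}) [IsDomain A]

theorem injective_algebraMap_closure :
    Function.Injective (algebraMap A (AlgebraicClosure (FractionRing A))) := by
  rw [IsScalarTower.algebraMap_eq A (FractionRing A) (AlgebraicClosure (FractionRing A))]
  exact (algebraMap (FractionRing A) (AlgebraicClosure (FractionRing A))).injective.comp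
    (IsFractionRing.injective _ _)

instance isAlgClosed_fractionRing_absClosure : IsAlgClosed (FractionRing (AbsClosure A)) := by
  let K := AlgebraicClosure (FractionRing A)
  haveI : Algebra.IsAlgebraic A K :=
    (IsFractionRing.comap_isAlgebraic_iff (A := A) (K := FractionRing A) (C := K)).mpr inferInstance
  haveI : IsFractionRing (integralClosure A K) K :=
    integralClosure.isFractionRing_of_algebraic
      ((injective_iff_map_eq_zero _).mp (injective_algebraMap_closure A))
  exact IsAlgClosed.of_ringEquiv K _ (FractionRing.algEquiv (integralClosure A K) K).symm.toRingEquiv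

/-- The projection to the original base. -/
noncomputable abbrev toBase : Spec (AbsClosure A) ⟶ Spec A :=
  Spec.map (CommRingCat.ofHom (algebraMap A (integralClosure A (AlgebraicClosure (FractionRing A)))))

theorem isIntegralHom_toBase : IsIntegralHom (toBase A) := by
  rw [IsIntegralHom.SpecMap_iff]
  exact Algebra.IsIntegral.isIntegral

theorem injective_toBase :
    Function.Injective (algebraMap A (integralClosure A (AlgebraicClosure (FractionRing A)))) :=
  fun a b h => injective_algebraMap_closure A (congrArg Subtype.val h)

theorem surjective_toBase : Surjective (toBase A) := by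
  refine ⟨fun p => ?_⟩
  obtain ⟨Q, -, hQ, hQp⟩ := Ideal.exists_ideal_over_prime_of_isIntegral
    (S := integralClosure A (AlgebraicClosure (FractionRing A))) p.asIdeal ⊥
    (by rw [← RingHom.ker_eq_comap_bot, (RingHom.injective_iff_ker_eq_bot _).mp (injective_toBase A)]
        exact bot_le)
  exact ⟨⟨Q, hQ⟩, PrimeSpectrum.ext hQp⟩

theorem toBase_genericPoint : toBase A (genericPoint (Spec (AbsClosure A))) = genericPoint (Spec A) := by
  rw [genericPoint_eq_bot_of_affine, genericPoint_eq_bot_of_affine]
  refine PrimeSpectrum.ext ?_
  show (⊥ : Ideal (AbsClosure A)).comap _ = ⊥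
  rw [← RingHom.ker_eq_comap_bot]
  exact (RingHom.injective_iff_ker_eq_bot _).mp (injective_toBase A)

/-- Opens of the closure containing the generic point contain preimages of such opens. -/
theorem exists_basicOpen_le {O : (Spec (AbsClosure A)).Opens} (hO : genericPoint (Spec (AbsClosure A)) ∈ O) :
    ∃ b : A, b ≠ 0 ∧ toBase A ⁻¹' ((PrimeSpectrum.basicOpen b : Opens (PrimeSpectrum A)) : Set (PrimeSpectrum A)) ⊆ O := by
  obtain ⟨_, ⟨a, rfl⟩, ha, haO⟩ := PrimeSpectrum.isTopologicalBasis_basic_opens.exists_subset_of_mem_open hO O.2
  have ha0 : a ≠ 0 := fun h => by rw [h] at ha; exact ha (Submodule.zero_mem _)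
  have hne : (Ideal.span {a}).comap
      (algebraMap A (integralClosure A (AlgebraicClosure (FractionRing A)))) ≠ ⊥ :=
    Ideal.comap_ne_bot_of_integral_mem ha0 (Ideal.mem_span_singleton_self a)
      (Algebra.IsIntegral.isIntegral a)
  obtain ⟨b, hb, hb0⟩ := Submodule.exists_mem_ne_zero_of_ne_bot hne
  obtain ⟨c, hc⟩ := Ideal.mem_span_singleton.mp (Ideal.mem_comap.mp hb)
  refine ⟨b, hb0, fun x hx => haO ?_⟩
  intro hax
  apply hx
  show algebraMap A (integralClosure A (AlgebraicClosure (FractionRing A))) b ∈ x.asIdeal
  rw [hc]
  exact Ideal.mul_mem_right c _ hax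

end Groth.Agent.SecComp
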