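import Groth.Agent.SecComp.Nbhd
import Groth.Agent.FlatDescends.Basic
import Groth.Agent.S2521

/-! # Section components contain neighbourhoods, flat finitely presented case -/

set_option autoImplicit false

universe u

open AlgebraicGeometry CategoryTheory Limits TopologicalSpace Topology

namespace Groth.Agent.SecComp

variable {X Y X' Y' : Scheme.{u}}

/-- Geometric reducedness in the fibre descends along base change. -/
theorem isGeomReducedAt_descend {f : X ⟶ Y} {f' : X' ⟶ Y'} {g' : X' ⟶ X} {g : Y' ⟶ Y}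
    (hc : IsPullback g' f' f g) (x' : X')
    (hx : FBase.IsGeomReducedAt (f'.fiberToSpecResidueField (f' x')) (f'.asFiber x')) :
    FBase.IsGeomReducedAt (f.fiberToSpecResidueField (f (g' x'))) (f.asFiber (g' x')) := by
  have hy : g (f' x') = f (g' x') := by rw [← Scheme.Hom.comp_apply, ← hc.w, Scheme.Hom.comp_apply]
  let k' : Type u := Y'.residueField (f' x')
  let M := AlgebraicClosure k'
  let c : Y'.residueField (f' x') ⟶ CommRingCat.of M := CommRingCat.ofHom (algebraMap k' M)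
  let φ := (Y.residueFieldCongr hy.symm).hom ≫ g.residueFieldMap (f' x') ≫ c
  let ψ := Spec.map φ
  let pt := Spec.map c ≫ Y'.fromSpecResidueField (f' x') ≫ g
  have hψ : ψ ≫ Y.fromSpecResidueField (f (g' x')) = pt := by
    simp only [ψ, φ, pt, Spec.map_comp, Category.assoc]
    rw [Scheme.residueFieldCongr_fromSpecResidueField, g.SpecMap_residueFieldMap_fromSpecResidueField]
  let fk := f.fiberToSpecResidueField (f (g' x'))
  let fk' := f'.fiberToSpecResidueField (f' x')
  have h1 : IsPullback (pullback.fst fk ψ ≫ f.fiberι (f (g' x'))) (pullback.snd fk ψ) f pt :=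
    hψ ▸ (IsPullback.of_hasPullback fk ψ).paste_horiz
      (IsPullback.of_hasPullback f (Y.fromSpecResidueField (f (g' x'))))
  have h2 : IsPullback ((pullback.fst fk' (Spec.map c) ≫ f'.fiberι (f' x')) ≫ g')
      (pullback.snd fk' (Spec.map c)) f pt := by
    have := ((IsPullback.of_hasPullback fk' (Spec.map c)).paste_horiz
      (IsPullback.of_hasPullback f' (Y'.fromSpecResidueField (f' x')))).paste_horiz hc
    simpa only [pt, Category.assoc, Scheme.Hom.fiberι] using this
  let e := h2.isoIsPullback _ _ h1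
  have he : e.hom ≫ pullback.fst fk ψ ≫ f.fiberι (f (g' x')) =
      (pullback.fst fk' (Spec.map c) ≫ f'.fiberι (f' x')) ≫ g' := h2.isoIsPullback_hom_fst _ _ h1
  haveI : Surjective (Spec.map c) := ⟨fun t => ⟨IsLocalRing.closedPoint M, Subsingleton.elim _ _⟩⟩
  obtain ⟨w, hw⟩ := (pullback.fst fk' (Spec.map c)).surjective (f'.asFiber x')
  haveI hr : _root_.IsReduced ((pullback fk' (Spec.map c)).presheaf.stalk w) :=
    @hx M _ c.hom.toAlgebra w hw
  refine @Groth.Agent.S2521.result _ M _ _ φ.hom.toAlgebra _ _ fk (f.asFiber (g' x')) (e.hom w)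
    ((f.fiberι (f (g' x'))).isEmbedding.injective ?_) ?_
  · rw [f.fiberι_asFiber]
    refine (congrArg (fun m => (m : _ ⟶ X) w) he).trans ?_
    show g' (f'.fiberι (f' x') (pullback.fst fk' (Spec.map c) w)) = g' x'
    rw [hw, f'.fiberι_asFiber]
  · show _root_.IsReduced ((pullback fk ψ).presheaf.stalk (e.hom w))
    exact isReduced_of_injective (asIso (e.hom.stalkMap w)).commRingCatIsoToRingEquiv.toRingHom
      (asIso (e.hom.stalkMap w)).commRingCatIsoToRingEquiv.injective

theorem component_subset_interior_of_limit {I : Type u} [SmallCategory I] [IsCofiltered I]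
    {D : I ⥤ Scheme.{u}} {c : Cone D} (hc : IsLimit c) [∀ i, IsAffine (D.obj i)]
    [∀ i, IsNoetherian (D.obj i)] [IsAffine c.pt] (f : X ⟶ c.pt) (s : c.pt ⟶ X) (hs : s ≫ f = 𝟙 c.pt)
    [LocallyOfFinitePresentation f] [QuasiCompact f] [QuasiSeparated f] [Flat f] (y : c.pt)
    (h : ∀ x ∈ connectedComponentIn (f ⁻¹' {y}) (s y),
      FBase.IsGeomReducedAt (f.fiberToSpecResidueField (f x)) (f.asFiber x)) :
    connectedComponentIn (f ⁻¹' {y}) (s y) ⊆ interior (MoreMor.sectionComponents f s) := by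
  haveI := QuasiCompact.compactSpace_of_compactSpace f
  haveI := quasiSeparatedSpace_of_quasiSeparated f
  obtain ⟨i₀, X₀, u₀, g₀, a₀, b₀, c₀, s₀⟩ := LimLib.hasModel hc f
  haveI : ∀ (i j : I) (a : i ⟶ j), IsAffineHom (D.map a) := fun i j a => inferInstance
  haveI := a₀
  haveI := b₀
  haveI := c₀
  obtain ⟨i₁, φ₁, hfl⟩ := FlatDescends.descends_flat D c hc (fun i j a => inferInstance)
    (fun i => inferInstance) (fun i => inferInstance) i₀ X₀ u₀ inferInstance inferInstance a₀ X g₀ f s₀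
    (show Flat f from inferInstance)
  let u₁ := pullback.snd u₀ (D.map φ₁)
  haveI : QuasiCompact u₀ := quasiCompact_of_compactSpace u₀
  haveI : QuasiSeparated u₀ := QuasiSeparated.of_quasiSeparatedSpace u₀
  haveI : CompactSpace ↥(pullback u₀ (D.map φ₁)) := QuasiCompact.compactSpace_of_compactSpace u₁
  haveI : QuasiSeparatedSpace ↥(pullback u₀ (D.map φ₁)) := quasiSeparatedSpace_of_quasiSeparated u₁
  let g₁ : X ⟶ pullback u₀ (D.map φ₁) := pullback.lift g₀ (f ≫ c.π.app i₁)
    (by rw [s₀.w, Category.assoc, c.w])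
  have s₁ : IsPullback g₁ f u₁ (c.π.app i₁) :=
    IsPullback.of_right (by simpa only [g₁, pullback.lift_fst, c.w] using s₀) (pullback.lift_snd _ _ _)
      (IsPullback.of_hasPullback u₀ (D.map φ₁))
  haveI : IsIso (𝟙 c.pt) := IsIso.id c.pt
  have t₁ : IsPullback (c.π.app i₁) (𝟙 c.pt) (𝟙 (D.obj i₁)) (c.π.app i₁) :=
    IsPullback.of_vert_isIso ⟨(Category.id_comp _).trans (Category.comp_id _).symm |>.symm⟩
  obtain ⟨j, gj, qXj, qYj, hgj, hYj, hsq⟩ :=
    ConsPairLib.exists_stage_hom D c hc i₁ (𝟙 (D.obj i₁)) u₁ t₁ s₁ s hs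
  let uj := pullback.snd (𝟙 (D.obj i₁)) (D.map j.hom)
  let vj := pullback.snd u₁ (D.map j.hom)
  haveI : Flat vj := MorphismProperty.pullback_snd (P := @Flat) _ _ hfl
  haveI : IsIso uj := inferInstance
  let σ : D.obj j.left ⟶ pullback u₁ (D.map j.hom) := inv uj ≫ gj
  have hσ : σ ≫ vj = 𝟙 _ := by rw [Category.assoc, hgj, IsIso.inv_hom_id]
  have hq : qXj = c.π.app j.left ≫ inv uj := by
    rw [IsIso.eq_comp_inv]
    show qXj ≫ pullback.snd (𝟙 (D.obj i₁)) (D.map j.hom) = _
    rw [← hgj, ← Category.assoc, hsq.w, Category.assoc, hYj.w, ← Category.assoc, hs]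
    exact Category.id_comp _
  have hσs : s ≫ qYj = c.π.app j.left ≫ σ := by
    rw [← hsq.w, hq, Category.assoc]
  haveI : LocallyOfFinitePresentation vj := inferInstance
  haveI : QuasiCompact vj := inferInstance
  haveI : UniversallyOpen vj := inferInstance
  intro x hx
  have hsub : qYj ⁻¹' interior (MoreMor.sectionComponents vj σ) ⊆ interior (MoreMor.sectionComponents f s) := by
    rw [preimage_sectionComponents vj σ hσ f qYj (c.π.app j.left) hYj s hs hσs]
    exact interior_maximal (Set.preimage_mono interior_subset) (isOpen_interior.preimage qYj.continuous)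
  refine hsub (component_subset_interior vj σ hσ (c.π.app j.left y) (fun x₀ hx₀ => ⟨?_, ?_⟩) ?_)
  · intro Y' g' x' _ U hU
    exact (pullback.snd vj g').isOpenMap.image_mem_nhds hU
  · have hy₀ : vj x₀ = c.π.app j.left y := connectedComponentIn_subset (vj ⁻¹' {c.π.app j.left y}) _ hx₀
    obtain ⟨x', hx', hx'y⟩ := Scheme.exists_preimage_of_isPullback hYj x₀ y hy₀
    have hmem : x' ∈ connectedComponentIn (f ⁻¹' {y}) (s y) := by
      rw [mem_component_iff vj σ hσ f qYj (c.π.app j.left) hYj s hs hσs y]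
      exact ⟨show qYj x' ∈ _ by rw [hx']; exact hx₀, hx'y⟩
    subst hx'
    exact isGeomReducedAt_descend hYj x' (h x' hmem)
  · exact ((mem_component_iff vj σ hσ f qYj (c.π.app j.left) hYj s hs hσs y).le hx).1

/-- Section components contain a neighbourhood of a geometrically reduced component, for flat
finitely presented morphisms. -/
theorem component_subset_interior_fp (f : X ⟶ Y) (s : Y ⟶ X) (hs : s ≫ f = 𝟙 Y)
    [LocallyOfFinitePresentation f] [QuasiCompact f] [QuasiSeparated f] [Flat f] (y : Y)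
    (h : ∀ x ∈ connectedComponentIn (f ⁻¹' {y}) (s y),
      FBase.IsGeomReducedAt (f.fiberToSpecResidueField (f x)) (f.asFiber x)) :
    connectedComponentIn (f ⁻¹' {y}) (s y) ⊆ interior (MoreMor.sectionComponents f s) := by
  obtain ⟨V, hV, hyV, -⟩ := exists_isAffineOpen_mem_and_subset (x := y) (U := ⊤) trivial
  obtain ⟨I, _, _, D, c, e, ⟨hc⟩, _, _⟩ := ConsPairLib.exists_noetherian_limit Γ(Y, V)
  haveI : IsAffine c.pt := .of_isIso e.hom
  let i : c.pt ≅ (V : Scheme.{u}) := e ≪≫ hV.isoSpec.symm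
  let f' : ((f ⁻¹ᵁ V) : Scheme.{u}) ⟶ c.pt := (f ∣_ V) ≫ i.inv
  have hc' : IsPullback (f ⁻¹ᵁ V).ι f' f (i.hom ≫ V.ι) :=
    (isPullback_morphismRestrict f V).flip.of_iso (Iso.refl _) (Iso.refl _) i.symm
      (Iso.refl _) (by simp) (by simp [f']) (by simp) (by simp)
  haveI : LocallyOfFinitePresentation f' := MorphismProperty.of_isPullback hc' ‹_›
  haveI : QuasiCompact f' := MorphismProperty.of_isPullback hc' ‹_›
  haveI : QuasiSeparated f' := MorphismProperty.of_isPullback hc' ‹_›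
  haveI : Flat f' := MorphismProperty.of_isPullback hc' ‹_›
  let s' : c.pt ⟶ ((f ⁻¹ᵁ V) : Scheme.{u}) :=
    hc'.lift ((i.hom ≫ V.ι) ≫ s) (𝟙 _) (by rw [Category.assoc, hs, Category.comp_id, Category.id_comp])
  have hs' : s' ≫ f' = 𝟙 _ := hc'.lift_snd _ _ _
  have hs'g : s' ≫ (f ⁻¹ᵁ V).ι = (i.hom ≫ V.ι) ≫ s := hc'.lift_fst _ _ _
  let y' : c.pt := i.inv ⟨y, hyV⟩
  have hy' : (i.hom ≫ V.ι) y' = y := by
    show V.ι (i.hom (i.inv ⟨y, hyV⟩)) = y
    rw [← Scheme.Hom.comp_apply i.inv, Iso.inv_hom_id]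
    rfl
  have hmem := mem_component_iff f s hs f' (f ⁻¹ᵁ V).ι (i.hom ≫ V.ι) hc' s' hs' hs'g y'
  rw [hy'] at hmem
  intro x hx
  have hxf : f x = y := connectedComponentIn_subset (f ⁻¹' {y}) _ hx
  obtain ⟨x', hx', hx'y⟩ := Scheme.exists_preimage_of_isPullback hc' x y' (by rw [hxf, hy'])
  have h' : ∀ z ∈ connectedComponentIn (f' ⁻¹' {y'}) (s' y'),
      FBase.IsGeomReducedAt (f'.fiberToSpecResidueField (f' z)) (f'.asFiber z) := fun z hz =>
    isGeomReducedAt_restrict hc'.w.symm (h _ (hmem.le hz).1)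
  have hint := component_subset_interior_of_limit hc f' s' hs' y' h'
    (hmem.ge ⟨show (f ⁻¹ᵁ V).ι x' ∈ _ by rw [hx']; exact hx, hx'y⟩)
  rw [preimage_sectionComponents f s hs f' _ _ hc' s' hs' hs'g,
    ← (f ⁻¹ᵁ V).ι.isOpenMap.preimage_interior_eq_interior_preimage (f ⁻¹ᵁ V).ι.continuous] at hint
  rw [← hx']
  exact hint

/-- Section components contain a neighbourhood of a geometrically reduced component, for flat
morphisms locally of finite presentation from a quasi-separated scheme. -/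
theorem component_subset_interior_lfp [QuasiSeparatedSpace X] (f : X ⟶ Y) (s : Y ⟶ X) (hs : s ≫ f = 𝟙 Y)
    [LocallyOfFinitePresentation f] [Flat f] (y : Y)
    (h : ∀ x ∈ connectedComponentIn (f ⁻¹' {y}) (s y),
      FBase.IsGeomReducedAt (f.fiberToSpecResidueField (f x)) (f.asFiber x)) :
    connectedComponentIn (f ⁻¹' {y}) (s y) ⊆ interior (MoreMor.sectionComponents f s) := by
  intro x hx
  have hfs : f (s y) = y := by rw [← Scheme.Hom.comp_apply, hs]; rfl
  obtain ⟨V₀, hV₀, hyV₀, -⟩ := exists_isAffineOpen_mem_and_subset (x := y) (U := ⊤) trivial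
  obtain ⟨U, hUc, hUB, hyU, hxU⟩ := exists_isCompact_connected f hfs hx (f ⁻¹ᵁ V₀)
    fun z hz => show f z ∈ V₀ by rw [hz]; exact hyV₀
  obtain ⟨V, hV, hyV, hVU₀⟩ := exists_isAffineOpen_mem_and_subset (x := y) (U := s ⁻¹ᵁ U ⊓ V₀)
    ⟨hyU, hyV₀⟩
  have hVU : (V : Set Y) ⊆ s ⁻¹ᵁ U := fun z hz => (hVU₀ hz).1
  let g := U.ι ≫ f
  let f' := g ∣_ V
  let j := (g ⁻¹ᵁ V).ι ≫ U.ι
  have w : f' ≫ V.ι = j ≫ f := by rw [morphismRestrict_ι, Category.assoc]
  let sU : (V : Scheme.{u}) ⟶ (U : Scheme.{u}) := IsOpenImmersion.lift U.ι (V.ι ≫ s) (by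
    rintro _ ⟨t, rfl⟩
    rw [Scheme.Opens.range_ι, Scheme.Hom.comp_apply]
    exact hVU t.2)
  have hsU : sU ≫ U.ι = V.ι ≫ s := IsOpenImmersion.lift_fac _ _ _
  let s' := (isPullback_morphismRestrict g V).flip.lift sU (𝟙 _)
    (by rw [← Category.assoc, hsU, Category.assoc, hs, Category.comp_id, Category.id_comp])
  have hs' : s' ≫ f' = 𝟙 _ := (isPullback_morphismRestrict g V).flip.lift_snd _ _ _
  have hs'j : s' ≫ j = V.ι ≫ s := by
    rw [← Category.assoc, (isPullback_morphismRestrict g V).flip.lift_fst, hsU]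
  haveI : IsOpenImmersion j := inferInstance
  have hjs : ∀ t, j (s' t) = s t.1 := fun t => by
    rw [← Scheme.Hom.comp_apply, hs'j, Scheme.Hom.comp_apply]; rfl
  have hfib : ∀ z, f (j z) = (f' z).1 := fun z => by
    rw [← Scheme.Hom.comp_apply, ← w, Scheme.Hom.comp_apply]; rfl
  have hrange : ∀ z, z ∈ Set.range j ↔ z ∈ U ∧ f z ∈ V := by
    intro z
    constructor
    · rintro ⟨t, rfl⟩
      exact ⟨(U.range_ι).le ⟨_, rfl⟩, t.2⟩
    · rintro ⟨h1, h2⟩
      exact ⟨⟨⟨z, h1⟩, h2⟩, rfl⟩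
  have himg : ∀ (t : (V : Scheme.{u})) (z : ((g ⁻¹ᵁ V) : Scheme.{u})),
      z ∈ connectedComponentIn (f' ⁻¹' {t}) (s' t) →
        j z ∈ connectedComponentIn (f ⁻¹' {t.1}) (s t.1) := by
    intro t z hz
    refine (isPreconnected_connectedComponentIn.image j j.continuous.continuousOn).subset_connectedComponentIn
      ⟨s' t, mem_connectedComponentIn ?_, hjs t⟩ ?_ ⟨z, hz, rfl⟩
    · exact (Scheme.Hom.comp_apply s' f' t).symm.trans (by rw [hs']; rfl)
    · rintro _ ⟨v, hv, rfl⟩
      exact (hfib v).trans (congrArg Subtype.val (connectedComponentIn_subset (f' ⁻¹' {t}) _ hv : f' v = t))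
  obtain ⟨z₀, rfl⟩ : x ∈ Set.range j := (hrange x).mpr ⟨(connectedComponentIn_subset _ _ hxU).2,
    ((connectedComponentIn_subset _ _ hxU).1 : f x = y).symm ▸ hyV⟩
  have hz₀ : z₀ ∈ connectedComponentIn (f' ⁻¹' {⟨y, hyV⟩}) (s' ⟨y, hyV⟩) := by
    let P := connectedComponentIn (f ⁻¹' {y} ∩ U) (s y)
    have hP : P ⊆ Set.range j := fun p hp => (hrange p).mpr ⟨(connectedComponentIn_subset _ _ hp).2,
      ((connectedComponentIn_subset _ _ hp).1 : f p = y).symm ▸ hyV⟩
    have hpre : _root_.IsPreconnected (j ⁻¹' P) := by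
      rw [← j.isEmbedding.isInducing.isPreconnected_image, Set.image_preimage_eq_of_subset hP]
      exact isPreconnected_connectedComponentIn
    refine hpre.subset_connectedComponentIn ?_ ?_ hxU
    · show j (s' ⟨y, hyV⟩) ∈ P
      rw [hjs]
      exact mem_connectedComponentIn ⟨hfs, hyU⟩
    · intro v hv
      exact Subtype.ext ((hfib v).symm.trans (connectedComponentIn_subset _ _ hv).1)
  haveI : CompactSpace ↥(U : Scheme.{u}) := isCompact_iff_compactSpace.mp hUc
  haveI : QuasiSeparatedSpace ↥(U : Scheme.{u}) := QuasiSeparatedSpace.of_isOpenEmbedding U.ι.isOpenEmbedding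
  haveI : IsAffine (V₀ : Scheme.{u}) := hV₀
  let g₀ : (U : Scheme.{u}) ⟶ (V₀ : Scheme.{u}) := IsOpenImmersion.lift V₀.ι g (by
    rintro _ ⟨t, rfl⟩
    rw [Scheme.Opens.range_ι]
    exact hUB t.2)
  have hg₀ : g₀ ≫ V₀.ι = g := IsOpenImmersion.lift_fac _ _ _
  haveI : QuasiCompact g₀ := quasiCompact_of_compactSpace g₀
  have hcomp : IsCompact ((g ⁻¹ᵁ V : (U : Scheme.{u}).Opens) : Set (U : Scheme.{u})) := by
    rw [← hg₀, Scheme.Hom.comp_preimage]
    refine g₀.isCompact_preimage ?_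
    rw [V₀.ι.isOpenEmbedding.isInducing.isCompact_iff]
    simp only [Scheme.Hom.coe_preimage, Set.image_preimage_eq_inter_range, Scheme.Opens.range_ι]
    rw [Set.inter_eq_left.mpr (show (V : Set Y) ⊆ V₀ from fun z hz => (hVU₀ hz).2)]
    exact hV.isCompact
  haveI : CompactSpace ↥((g ⁻¹ᵁ V) : Scheme.{u}) := isCompact_iff_compactSpace.mp hcomp
  haveI : QuasiSeparatedSpace ↥((g ⁻¹ᵁ V) : Scheme.{u}) :=
    QuasiSeparatedSpace.of_isOpenEmbedding (g ⁻¹ᵁ V).ι.isOpenEmbedding
  haveI : IsAffine (V : Scheme.{u}) := hV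
  haveI : QuasiCompact f' := quasiCompact_of_compactSpace f'
  haveI : QuasiSeparated f' := QuasiSeparated.of_quasiSeparatedSpace f'
  haveI : LocallyOfFinitePresentation f' := inferInstance
  haveI : Flat f' := inferInstance
  have hE := component_subset_interior_fp f' s' hs' ⟨y, hyV⟩
    (fun v hv => isGeomReducedAt_restrict w (h _ (himg _ v hv))) hz₀
  refine mem_interior_iff_mem_nhds.mpr (Filter.mem_of_superset
    (j.isOpenMap.image_mem_nhds (mem_interior_iff_mem_nhds.mp hE)) ?_)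
  rintro _ ⟨v, hv, rfl⟩
  show j v ∈ connectedComponentIn (f ⁻¹' {f (j v)}) (s (f (j v)))
  rw [hfib]
  exact himg _ v hv

theorem isGeomReducedAt_of_geometricallyReduced {k : Type u} [Field k] {Z : Scheme.{u}}
    (f : Z ⟶ Spec (CommRingCat.of k)) [GeometricallyReduced f] (z : Z) : FBase.IsGeomReducedAt f z := by
  intro K _ _ x' _
  haveI : IsReduced (FBase.bc f K) :=
    GeometricallyReduced.geometrically_isReduced (f := f) _ _ _ (IsPullback.of_hasPullback f _)
  infer_instance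

/-- A condition on the points of one fibre, read at the images. -/
theorem isGeomReducedAt_of_fiber (f : X ⟶ Y) {y : Y} (x : X) (hx : f x = y)
    (h : ∀ x' : ↥(f.fiber y), (f.fiberι y) x' = x → FBase.IsGeomReducedAt (f.fiberToSpecResidueField y) x') :
    FBase.IsGeomReducedAt (f.fiberToSpecResidueField (f x)) (f.asFiber x) := by
  subst hx
  exact h _ (f.fiberι_asFiber x)

end Groth.Agent.SecComp
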