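import Groth.Agent.FlatMor.DVRFlat
import Mathlib.RingTheory.Idempotents

/-!
# Connectedness of the generic fibre over a discrete valuation ring
A connected scheme over a DVR with reduced special fibre and dense generic fibre has connected
generic fibre.
-/

universe u

open AlgebraicGeometry CategoryTheory Limits IsLocalRing

namespace Groth.Agent.SecComp.DVR

/-- Idempotents away from a regular element modulo which the ring is reduced descend. -/
theorem exists_idempotent {B : Type u} [CommRing B] {p : B} (hp : IsSMulRegular B p)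
    (hred : _root_.IsReduced (B ⧸ Ideal.span {p})) {e : Localization.Away p}
    (he : IsIdempotentElem e) :
    ∃ ε : B, IsIdempotentElem ε ∧ algebraMap B (Localization.Away p) ε = e := by
  obtain ⟨⟨a, ⟨_, n, rfl⟩⟩, h⟩ := IsLocalization.surj (Submonoid.powers p) e
  have hreg : ∀ (k : ℕ) {x y : B}, p ^ k * x = p ^ k * y → x = y := fun k _ _ h => (hp.pow k) h
  have key : ∀ (n : ℕ) (a : B), e * algebraMap B (Localization.Away p) (p ^ n) = algebraMap B _ a →
      a * a = p ^ n * a := by
    intro n a h
    have h2 : algebraMap B (Localization.Away p) (a * a) = algebraMap B _ (p ^ n * a) := by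
      rw [map_mul, map_mul, ← h]
      calc e * algebraMap B _ (p ^ n) * (e * algebraMap B _ (p ^ n))
          = (e * e) * (algebraMap B _ (p ^ n) * algebraMap B _ (p ^ n)) := by ring
        _ = algebraMap B _ (p ^ n) * (e * algebraMap B _ (p ^ n)) := by rw [he.eq]; ring
    obtain ⟨⟨_, k, rfl⟩, hk⟩ := (IsLocalization.eq_iff_exists (Submonoid.powers p) _).mp h2
    exact hreg k hk
  induction n generalizing a with
  | zero =>
    rw [show ((⟨(fun x => p ^ x) 0, 0, rfl⟩ : Submonoid.powers p) : B) = 1 from pow_zero p, map_one,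
      mul_one] at h
    refine ⟨a, ?_, h.symm⟩
    have := key 0 a (by rw [pow_zero, map_one, mul_one]; exact h)
    rwa [pow_zero, one_mul] at this
  | succ n ih =>
    have h' := key (n + 1) a h
    obtain ⟨b, rfl⟩ : ∃ b, a = p * b := by
      have : Ideal.Quotient.mk (Ideal.span {p}) a = 0 := by
        refine IsReduced.eq_zero _ ⟨2, ?_⟩
        rw [← map_pow, Ideal.Quotient.eq_zero_iff_mem, Ideal.mem_span_singleton', pow_two, h']
        exact ⟨p ^ n * a, by ring⟩
      rw [Ideal.Quotient.eq_zero_iff_mem, Ideal.mem_span_singleton'] at this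
      obtain ⟨b, hb⟩ := this
      exact ⟨b, by rw [← hb, mul_comm]⟩
    refine ih b ?_
    change e * algebraMap B _ (p ^ (n + 1)) = algebraMap B _ (p * b) at h
    rw [pow_succ', map_mul, map_mul, mul_left_comm] at h
    exact (IsLocalization.Away.algebraMap_isUnit p).mul_left_cancel h

/-- A partition of `D(p)` extends to a partition of the spectrum. -/
theorem exists_clopen {B : Type u} [CommRing B] {p : B} (hp : IsSMulRegular B p)
    (hred : _root_.IsReduced (B ⧸ Ideal.span {p})) {G H : Set (PrimeSpectrum B)} (hG : IsOpen G)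
    (hH : IsOpen H) (hd : Disjoint G H) (hu : G ∪ H = PrimeSpectrum.basicOpen p) :
    ∃ C : Set (PrimeSpectrum B), IsClopen C ∧ G ⊆ C ∧ Disjoint C H := by
  let c := PrimeSpectrum.comap (algebraMap B (Localization.Away p))
  have hc : Set.range c = PrimeSpectrum.basicOpen p :=
    PrimeSpectrum.localization_away_comap_range _ p
  have hGc : c ⁻¹' H = (c ⁻¹' G)ᶜ := by
    ext z
    have : c z ∈ G ∪ H := hu ▸ hc ▸ ⟨z, rfl⟩
    exact ⟨fun h h' => Set.disjoint_left.mp hd h' h, fun h => this.resolve_left h⟩
  have hclopen : IsClopen (c ⁻¹' G) := by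
    refine ⟨isOpen_compl_iff.mp ?_, hG.preimage (PrimeSpectrum.continuous_comap _)⟩
    rw [← hGc]
    exact hH.preimage (PrimeSpectrum.continuous_comap _)
  obtain ⟨e, he, hGe⟩ := PrimeSpectrum.isClopen_iff.mp hclopen
  obtain ⟨ε, hε, rfl⟩ := exists_idempotent hp hred he
  have key : ∀ z, c z ∈ G ↔ c z ∈ (PrimeSpectrum.basicOpen ε : Set (PrimeSpectrum B)) := fun z =>
    Set.ext_iff.mp hGe z
  refine ⟨_, PrimeSpectrum.isClopen_iff.mpr ⟨ε, hε, rfl⟩, fun x hx => ?_,
    Set.disjoint_left.mpr fun x hx hxH => ?_⟩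
  · obtain ⟨z, rfl⟩ := hc.ge (hu ▸ Set.mem_union_left H hx)
    exact (key z).mp hx
  · obtain ⟨z, rfl⟩ := hc.ge (hu ▸ Set.mem_union_right G hxH)
    exact Set.disjoint_left.mp hd ((key z).mpr hx) hxH

/-- The generic fibre of a connected scheme over a DVR is connected when it is dense and the special
fibre is reduced. -/
theorem isPreconnected_generic (A : Type u) [CommRing A] [IsDomain A] [IsDiscreteValuationRing A]
    {Z : Scheme.{u}} [IsLocallyNoetherian Z] (q : Z ⟶ Spec (CommRingCat.of A))
    (hred : IsReduced (q.fiber (closedPoint A)))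
    (hdense : Dense (q ⁻¹' {genericPoint (Spec (CommRingCat.of A))})) [PreconnectedSpace Z] :
    _root_.IsPreconnected (q ⁻¹' {genericPoint (Spec (CommRingCat.of A))}) := by
  haveI := FlatMor.DVRFlat.flat A q hred hdense
  obtain ⟨π, hπ⟩ := IsDiscreteValuationRing.exists_irreducible A
  have hm : maximalIdeal A = Ideal.span {π} :=
    (IsDiscreteValuationRing.irreducible_iff_uniformizer π).mp hπ
  have hη : ∀ t : ↥(Spec (CommRingCat.of A)),
      t = genericPoint (Spec (CommRingCat.of A)) ↔ π ∉ t.asIdeal := by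
    intro t
    rw [genericPoint_eq_bot_of_affine]
    refine ⟨fun h hmem => hπ.ne_zero ?_, fun h => PrimeSpectrum.ext ?_⟩
    · rw [h] at hmem
      simpa using hmem
    · by_contra h0
      exact h ((IsPrime.to_maximal_ideal (hpi := t.isPrime) h0).eq_of_le
        (maximalIdeal.isMaximal A).ne_top (IsLocalRing.le_maximalIdeal t.isPrime.ne_top) ▸
        hm ▸ Ideal.mem_span_singleton_self π)
  have hopen : IsOpen (q ⁻¹' {genericPoint (Spec (CommRingCat.of A))}) := by
    have : q ⁻¹' {genericPoint (Spec (CommRingCat.of A))} =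
        q ⁻¹' (PrimeSpectrum.basicOpen π : Set (PrimeSpectrum A)) := by
      ext z
      exact hη (q z)
    rw [this]
    exact (PrimeSpectrum.basicOpen π).2.preimage q.continuous
  rw [isPreconnected_iff_subset_of_disjoint]
  intro U V hU hV hUV hdis
  let F := q ⁻¹' {genericPoint (Spec (CommRingCat.of A))}
  let G := F ∩ U
  let H := F ∩ V
  have hGo : IsOpen G := hopen.inter hU
  have hHo : IsOpen H := hopen.inter hV
  have hd : Disjoint G H := Set.disjoint_left.mpr fun x hx hx' =>
    (hdis.le ⟨hx.1, hx.2, hx'.2⟩ : x ∈ (∅ : Set Z))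
  have hcl : Disjoint (closure G) (closure H) := by
    rw [Set.disjoint_left]
    intro x hxG hxH
    obtain ⟨W, hW, hxW, -⟩ := exists_isAffineOpen_mem_and_subset (x := x) (U := ⊤) trivial
    let j := hW.fromSpec
    obtain ⟨φ, hφ⟩ := Spec.map_surjective (j ≫ q)
    haveI : Flat (Spec.map φ) := hφ ▸ inferInstance
    have hflat : φ.hom.Flat := (HasRingHomProperty.Spec_iff (P := @Flat)).mp inferInstance
    letI := φ.hom.toAlgebra
    haveI : Module.Flat A Γ(Z, W) := hflat
    have hreg : IsSMulRegular Γ(Z, W) (φ π) :=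
      IsSMulRegular.of_flat (fun a b h => mul_left_cancel₀ hπ.ne_zero h)
    have hred' : IsReduced ((Spec.map φ).fiber (closedPoint A)) := by
      rw [hφ]
      exact @isReduced_of_isOpenImmersion _ _ (pullbackRightPullbackFstIso q
        ((Spec (CommRingCat.of A)).fromSpecResidueField (closedPoint A))
        j).inv _ (@isReduced_of_isOpenImmersion _ _ (pullback.snd _ _) _ hred)
    haveI : (closedPoint A).asIdeal.IsMaximal := maximalIdeal.isMaximal A
    have hq := FlatMor.DVRFlat.isReduced_quotient_of_fiber (R := A) (A := Γ(Z, W)) (closedPoint A) hred'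
    rw [show (closedPoint A).asIdeal = Ideal.span {π} from hm, Ideal.map_span,
      Set.image_singleton] at hq
    have hF : j ⁻¹' F = (PrimeSpectrum.basicOpen (φ π) : Set (PrimeSpectrum Γ(Z, W))) := by
      ext t
      show q (j t) = _ ↔ _
      rw [← Scheme.Hom.comp_apply, ← hφ, hη]
      rfl
    obtain ⟨C, hC, hGC, hCH⟩ := exists_clopen hreg hq (hGo.preimage j.continuous)
      (hHo.preimage j.continuous) (hd.preimage _) (by
        refine Eq.trans ?_ hF
        show j ⁻¹' (G ∪ H) = j ⁻¹' F
        congr 1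
        exact Set.Subset.antisymm (Set.union_subset Set.inter_subset_left Set.inter_subset_left)
          fun z hz => (hUV hz).imp (fun h => ⟨hz, h⟩) fun h => ⟨hz, h⟩)
    obtain ⟨t, rfl⟩ : x ∈ Set.range j := hW.range_fromSpec ▸ hxW
    by_cases ht : t ∈ C
    · obtain ⟨_, ⟨s, hs, rfl⟩, hsH⟩ := mem_closure_iff.mp hxH _ (j.isOpenEmbedding.isOpenMap _ hC.2)
        ⟨t, ht, rfl⟩
      exact Set.disjoint_left.mp hCH hs hsH
    · obtain ⟨_, ⟨s, hs, rfl⟩, hsG⟩ := mem_closure_iff.mp hxG _
        (j.isOpenEmbedding.isOpenMap _ hC.1.isOpen_compl) ⟨t, ht, rfl⟩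
      exact hs (hGC hsG)
  have hcov : closure G ∪ closure H = Set.univ := by
    rw [← closure_union, Set.eq_univ_iff_forall]
    intro x
    refine closure_mono ?_ (hdense x)
    exact fun z hz => (hUV hz).imp (fun h => ⟨hz, h⟩) fun h => ⟨hz, h⟩
  have hclopen : IsClopen (closure G) := by
    refine ⟨isClosed_closure, ?_⟩
    have : closure G = (closure H)ᶜ := Set.ext fun x => ⟨fun h => Set.disjoint_left.mp hcl h,
      fun h => ((hcov.ge (Set.mem_univ x)).resolve_right h)⟩
    rw [this]
    exact isClosed_closure.isOpen_compl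
  rcases isClopen_iff.mp hclopen with h | h
  · refine Or.inr fun z hz => (hUV hz).resolve_left fun hzU => ?_
    exact (h.le (subset_closure ⟨hz, hzU⟩) : z ∈ (∅ : Set Z))
  · refine Or.inl fun z hz => (hUV hz).resolve_right fun hzV => ?_
    exact Set.disjoint_left.mp hcl (h.ge (Set.mem_univ z)) (subset_closure ⟨hz, hzV⟩)

end Groth.Agent.SecComp.DVR
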