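import Groth.Agent.SecComp.Basic
import Groth.Agent.SecComp.DVR
import Groth.Agent.UnivOpenDVR.Basic
import Groth.Agent.SchPoints.Basic
import Groth.Agent.RatMapExt.Valuative
import Groth.Prelude.Def_EGA43
import Groth.Prelude.Def_FDesc

/-!
# Section components are stable under generization
(along a fibre component where the morphism is universally open with geometrically reduced fibre)
-/

set_option autoImplicit false

universe u

open AlgebraicGeometry CategoryTheory Limits

namespace Groth.Agent.SecComp.Generize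

variable {X Y : Scheme.{u}}

/-- Stalks of the closed fibre of a base change at points over geometrically reduced points. -/
theorem isReduced_stalk_fiber (f : X ⟶ Y) {T : Scheme.{u}} (g : T ⟶ Y) (c : T)
    (u : ↥((pullback.snd f g).fiber c)) (x : X)
    (hu : pullback.fst f g ((pullback.snd f g).fiberι c u) = x)
    (hx : FBase.IsGeomReducedAt (f.fiberToSpecResidueField (f x)) (f.asFiber x)) :
    _root_.IsReduced (((pullback.snd f g).fiber c).presheaf.stalk u) := by
  let q := pullback.snd f g
  have hqu : q ((pullback.snd f g).fiberι c u) = c := (q.range_fiberι c).le ⟨u, rfl⟩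
  have hgc : g c = f x := by
    rw [← hu, ← Scheme.Hom.comp_apply (pullback.fst f g) f, pullback.condition,
      Scheme.Hom.comp_apply, hqu]
  let φ := (Y.residueFieldCongr hgc.symm).hom ≫ g.residueFieldMap c
  let fk := f.fiberToSpecResidueField (f x)
  let ψ := Spec.map φ
  have hψ : ψ ≫ Y.fromSpecResidueField (f x) = T.fromSpecResidueField c ≫ g := by
    simp only [ψ, φ, Spec.map_comp, Category.assoc]
    rw [Scheme.residueFieldCongr_fromSpecResidueField, g.SpecMap_residueFieldMap_fromSpecResidueField]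
  have h1 : IsPullback (pullback.fst fk ψ ≫ f.fiberι (f x)) (pullback.snd fk ψ) f
      (T.fromSpecResidueField c ≫ g) :=
    hψ ▸ (IsPullback.of_hasPullback fk ψ).paste_horiz
      (IsPullback.of_hasPullback f (Y.fromSpecResidueField (f x)))
  have h2 : IsPullback (q.fiberι c ≫ pullback.fst f g) (q.fiberToSpecResidueField c) f
      (T.fromSpecResidueField c ≫ g) :=
    (IsPullback.of_hasPullback q (T.fromSpecResidueField c)).paste_horiz (IsPullback.of_hasPullback f g)
  let e := h2.isoIsPullback _ _ h1
  have he : e.hom ≫ pullback.fst fk ψ ≫ f.fiberι (f x) = q.fiberι c ≫ pullback.fst f g :=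
    h2.isoIsPullback_hom_fst _ _ h1
  letI : Algebra (Y.residueField (f x)) (T.residueField c) := φ.hom.toAlgebra
  have hred : _root_.IsReduced ((pullback fk ψ).presheaf.stalk (e.hom u)) := by
    refine @hx (T.residueField c) _ φ.hom.toAlgebra (e.hom u)
      ((f.fiberι (f x)).isEmbedding.injective ?_)
    rw [f.fiberι_asFiber]
    refine Eq.trans ?_ hu
    exact congrArg (fun m => (m : _ ⟶ X) u) he
  exact isReduced_of_injective (asIso (e.hom.stalkMap u)).commRingCatIsoToRingEquiv.symm.toRingHom
    (asIso (e.hom.stalkMap u)).commRingCatIsoToRingEquiv.symm.injective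

theorem mem_sectionComponents_of_specializes [IsLocallyNoetherian Y] (f : X ⟶ Y)
    [LocallyOfFiniteType f] (s : Y ⟶ X) (hs : s ≫ f = 𝟙 Y) (y : Y)
    (h : ∀ x ∈ connectedComponentIn (f ⁻¹' {y}) (s y), EGA43.IsUnivOpenAt f x ∧
      FBase.IsGeomReducedAt (f.fiberToSpecResidueField (f x)) (f.asFiber x))
    {x x' : X} (hx : x ∈ connectedComponentIn (f ⁻¹' {y}) (s y)) (hx' : x' ⤳ x) :
    x' ∈ MoreMor.sectionComponents f s := by
  have hfs : ∀ t : Y, f (s t) = t := fun t => by rw [← Scheme.Hom.comp_apply, hs]; rfl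
  have hfx : f x = y := connectedComponentIn_subset (f ⁻¹' {y}) _ hx
  haveI : IsLocallyNoetherian X := LocallyOfFiniteType.isLocallyNoetherian f
  by_cases hne : x' = x
  · subst hne
    show x' ∈ connectedComponentIn (f ⁻¹' {f x'}) (s (f x'))
    rw [hfx]
    exact hx
  obtain ⟨A, _, _, _, l, hlc, hlη⟩ := RatMapExt.exists_dvr_of_specializes hx' hne
  let T := Spec (CommRingCat.of A)
  let c : ↥T := IsLocalRing.closedPoint A
  let η : ↥T := genericPoint T
  have hlη' : l η = x' := by
    have ht := hlη (IsLocalRing.closedPoint (FractionRing A))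
    rw [Scheme.Hom.comp_apply] at ht
    refine Eq.trans ?_ ht
    congr 1
    refine (genericPoint_eq_bot_of_affine (CommRingCat.of A)).trans (PrimeSpectrum.ext ?_).symm
    show Ideal.comap (algebraMap A (FractionRing A))
      (IsLocalRing.maximalIdeal (FractionRing A)) = ⊥
    rw [IsLocalRing.maximalIdeal_eq_bot]
    exact (RingHom.injective_iff_ker_eq_bot _).mp (IsFractionRing.injective A (FractionRing A))
  let g := l ≫ f
  let P := pullback f g
  let q := pullback.snd f g
  let p := pullback.fst f g
  let σ : T ⟶ P := pullback.lift l (𝟙 T) (by rw [Category.id_comp])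
  let τ : T ⟶ P := pullback.lift (g ≫ s) (𝟙 T)
    (by rw [Category.assoc, hs, Category.comp_id, Category.id_comp])
  have hστ : ∀ t, q (σ t) = t ∧ q (τ t) = t := fun t =>
    ⟨(congrArg (fun m => (m : T ⟶ T) t) (pullback.lift_snd l (𝟙 T) _)),
      (congrArg (fun m => (m : T ⟶ T) t) (pullback.lift_snd (g ≫ s) (𝟙 T) _))⟩
  have hpσ : ∀ t, p (σ t) = l t := fun t =>
    congrArg (fun m => (m : T ⟶ X) t) (pullback.lift_fst l (𝟙 T) _)
  have hpτ : ∀ t, p (τ t) = s (g t) := fun t =>
    (congrArg (fun m => (m : T ⟶ X) t) (pullback.lift_fst (g ≫ s) (𝟙 T) _)).trans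
      (Scheme.Hom.comp_apply _ _ _)
  have hgc : g c = y := by
    show (l ≫ f) c = y
    rw [Scheme.Hom.comp_apply, hlc, hfx]
  haveI : LocallyOfFiniteType q := inferInstanceAs (LocallyOfFiniteType (pullback.snd f g))
  haveI : IsLocallyNoetherian P := LocallyOfFiniteType.isLocallyNoetherian q
  let C := connectedComponentIn (q ⁻¹' {c}) (τ c)
  have hC : ∀ z, z ∈ C ↔ p z ∈ connectedComponentIn (f ⁻¹' {y}) (s y) ∧ q z = c := by
    intro z
    show z ∈ connectedComponentIn (q ⁻¹' {c}) (τ c) ↔ _
    rw [mem_component_iff f s hs q p g (IsPullback.of_hasPullback f g) τ (pullback.lift_snd _ _ _)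
      (pullback.lift_fst _ _ _) c, hgc]
    rfl
  have hσC : σ c ∈ C := (hC _).mpr ⟨by rw [hpσ, hlc]; exact hx, (hστ c).1⟩
  haveI : LocallyOfFiniteType (q.fiberToSpecResidueField c) :=
    MorphismProperty.pullback_snd (P := @LocallyOfFiniteType) _ _ inferInstance
  haveI : IsLocallyNoetherian (q.fiber c) :=
    LocallyOfFiniteType.isLocallyNoetherian (q.fiberToSpecResidueField c)
  -- the closed fibre away from the component is closed
  have hclosed : IsClosed (q ⁻¹' {c} \ C) := by
    haveI : LocallyConnectedSpace ↥(q.fiber c) :=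
      SchPoints.locallyConnectedSpace fun t => SchPoints.exists_noetherian_nhd t
    haveI : IsClosedImmersion (q.fiberι c) := by
      haveI : IsClosedImmersion (T.fromSpecResidueField c) := by
        refine IsClosedImmersion.of_isPreimmersion _ ?_
        rw [Scheme.range_fromSpecResidueField]
        exact IsLocalRing.isClosed_singleton_closedPoint A
      exact MorphismProperty.pullback_fst (P := @IsClosedImmersion) _ _ inferInstance
    obtain ⟨w, hw⟩ : τ c ∈ Set.range (q.fiberι c) := (q.range_fiberι c).ge (hστ c).2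
    have : q ⁻¹' {c} \ C = q.fiberι c '' (connectedComponent w)ᶜ := by
      show q ⁻¹' {c} \ connectedComponentIn (q ⁻¹' {c}) (τ c) = _
      rw [← hw, connectedComponentIn_fibre, ← q.range_fiberι c,
        Set.range_sdiff_image (q.fiberι c).isEmbedding.injective]
    rw [this]
    exact (q.fiberι c).isClosedEmbedding.isClosedMap _ isOpen_connectedComponent.isClosed_compl
  haveI : LocallyConnectedSpace ↥P :=
    SchPoints.locallyConnectedSpace fun t => SchPoints.exists_noetherian_nhd t
  let U : Set P := (q ⁻¹' {c} \ C)ᶜ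
  have hσU : σ c ∈ U := fun h => h.2 hσC
  let U₀ : P.Opens := ⟨connectedComponentIn U (σ c), hclosed.isOpen_compl.connectedComponentIn⟩
  have hU₀U : (U₀ : Set P) ⊆ U := connectedComponentIn_subset _ _
  have hU₀C : ∀ z ∈ U₀, q z = c → z ∈ C := fun z hz hzc => by
    by_contra hzC
    exact hU₀U hz ⟨hzc, hzC⟩
  haveI : PreconnectedSpace ↥(U₀ : Scheme.{u}) :=
    Subtype.preconnectedSpace (isPreconnected_connectedComponentIn (x := σ c) (F := U))
  have hτc : τ c ∈ U₀ := by
    have : C ⊆ U₀ := isPreconnected_connectedComponentIn.subset_connectedComponentIn hσC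
      fun z hz hz' => hz'.2 hz
    exact this (mem_connectedComponentIn (hστ c).2)
  have hgen : ∀ a : T ⟶ P, a c ∈ U₀ → a η ∈ U₀ := fun a ha =>
    ((genericPoint_specializes c).map a.continuous).mem_open U₀.2 ha
  let r := U₀.ι ≫ q
  haveI : IsLocallyNoetherian (U₀ : Scheme.{u}) := isLocallyNoetherian_of_isOpenImmersion U₀.ι
  have hred : IsReduced (r.fiber c) := by
    let ν := (pullbackRightPullbackFstIso q (T.fromSpecResidueField c) U₀.ι).inv ≫ pullback.snd _ _
    haveI : IsOpenImmersion ν := inferInstance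
    have hν : ν ≫ q.fiberι c = r.fiberι c ≫ U₀.ι := by
      simp only [ν, Category.assoc]
      show _ ≫ pullback.snd U₀.ι (pullback.fst q (T.fromSpecResidueField c)) ≫
        pullback.fst q (T.fromSpecResidueField c) = _
      rw [← pullback.condition, ← Category.assoc, pullbackRightPullbackFstIso_inv_fst]
      rfl
    haveI : ∀ t : ↥(r.fiber c), _root_.IsReduced ((r.fiber c).presheaf.stalk t) := by
      intro t
      have hz : (q.fiberι c) (ν t) = U₀.ι (r.fiberι c t) :=
        congrArg (fun m => (m : _ ⟶ P) t) hν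
      have hqz : q (q.fiberι c (ν t)) = c := (q.range_fiberι c).le ⟨_, rfl⟩
      have hzC : q.fiberι c (ν t) ∈ C := hU₀C _ (hz ▸ (r.fiberι c t).2) hqz
      haveI : _root_.IsReduced ((pullback q (T.fromSpecResidueField c)).presheaf.stalk (ν t)) :=
        isReduced_stalk_fiber f g c (ν t) _ rfl (h _ ((hC _).mp hzC).1).2
      exact isReduced_of_injective (asIso (ν.stalkMap t)).commRingCatIsoToRingEquiv.symm.toRingHom
        (asIso (ν.stalkMap t)).commRingCatIsoToRingEquiv.symm.injective
    exact isReduced_of_isReduced_stalk _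
  have hdense : Dense (r ⁻¹' {η}) := by
    intro z
    by_cases hzη : r z = η
    · exact subset_closure hzη
    have hTc : ∀ t : ↥T, t ≠ η → t = c := by
      intro t ht
      have ht0 : t.asIdeal ≠ ⊥ := fun h0 => ht ((PrimeSpectrum.ext h0).trans
        (genericPoint_eq_bot_of_affine (CommRingCat.of A)).symm)
      exact PrimeSpectrum.ext ((IsPrime.to_maximal_ideal (hpi := t.isPrime) ht0).eq_of_le
        (IsLocalRing.maximalIdeal.isMaximal A).ne_top (IsLocalRing.le_maximalIdeal t.isPrime.ne_top))
    have hzc : q z.1 = c := hTc _ hzη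
    have hzC := (hC _).mp (hU₀C _ z.2 hzc)
    obtain ⟨z', hz', hne'⟩ := (UnivOpenDVR.isUnivOpenAt_iff_dvr f _).mp (h _ hzC.1).1 A g (by
      show g c = f (p z.1)
      rw [hgc, (connectedComponentIn_subset (f ⁻¹' {y}) _ hzC.1 : f (p z.1) = y)]) z.1 rfl hzc
    have hz'U : z' ∈ U₀ := hz'.mem_open U₀.2 z.2
    have hspec : (⟨z', hz'U⟩ : ↥U₀) ⤳ z :=
      U₀.ι.isEmbedding.isInducing.specializes_iff.mp hz'
    refine hspec.mem_closed isClosed_closure (subset_closure ?_)
    show q z' = η
    by_contra hcon
    exact hne' (hTc _ hcon)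
  have hpre := DVR.isPreconnected_generic A r hred hdense
  have himg := hpre.image (U₀.ι ≫ p) (U₀.ι ≫ p).continuous.continuousOn
  show x' ∈ connectedComponentIn (f ⁻¹' {f x'}) (s (f x'))
  have hgη : g η = f x' := by
    show (l ≫ f) η = f x'
    rw [Scheme.Hom.comp_apply, hlη']
  refine himg.subset_connectedComponentIn ?_ ?_ ?_
  · refine ⟨⟨τ η, hgen τ hτc⟩, (hστ η).2, ?_⟩
    show p (τ η) = _
    rw [hpτ, hgη]
  · rintro _ ⟨z, hz, rfl⟩
    show f (p z.1) = f x'
    rw [← Scheme.Hom.comp_apply p f]
    show (pullback.fst f g ≫ f) z.1 = _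
    rw [pullback.condition, Scheme.Hom.comp_apply, ← hgη]
    exact congrArg g hz
  · exact ⟨⟨σ η, hgen σ (mem_connectedComponentIn hσU)⟩, (hστ η).1, (hpσ η).trans hlη'⟩

end Groth.Agent.SecComp.Generize
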