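import Groth.Agent.SecComp.Constructible
import Groth.Agent.SecComp.Generize
import Groth.Agent.OpenAt.Basic

/-! # Section components contain neighbourhoods (EGA IV 15.6.5) -/

set_option autoImplicit false

universe u

open AlgebraicGeometry CategoryTheory Limits TopologicalSpace Topology

namespace Groth.Agent.SecComp

variable {X Y : Scheme.{u}}

theorem isUnivOpenAt_of_isOpenImmersion (j : X ⟶ Y) [IsOpenImmersion j] (x : X) :
    EGA43.IsUnivOpenAt j x := fun _ g x' _ U hU =>
  (pullback.snd j g).isOpenMap.image_mem_nhds hU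

/-- Universal openness at a point restricts to opens of source and target. -/
theorem isUnivOpenAt_restrict {X' Y' : Scheme.{u}} {f : X ⟶ Y} {f' : X' ⟶ Y'} {j : X' ⟶ X}
    {i : Y' ⟶ Y} [IsOpenImmersion j] [Mono i] (w : f' ≫ i = j ≫ f) {z : X'}
    (h : EGA43.IsUnivOpenAt f (j z)) : EGA43.IsUnivOpenAt f' z := by
  intro Y'' g x' hx'
  have h1 : EGA43.IsUnivOpenAt (j ≫ f) z :=
    OpenAt.isUnivOpenAt_comp (isUnivOpenAt_of_isOpenImmersion j z) h
  refine OpenAt.isOpenAt_of_isPullback (g := g ≫ i) h1 ?_ x' hx'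
  rw [← w]
  refine IsPullback.of_isLimit' ⟨by rw [← Category.assoc, pullback.condition, Category.assoc]⟩
    (PullbackCone.IsLimit.mk _ (fun s => pullback.lift s.fst s.snd ((cancel_mono i).mp
      (by simpa [Category.assoc] using s.condition))) (fun s => pullback.lift_fst _ _ _)
      (fun s => pullback.lift_snd _ _ _) fun s m h₁ h₂ => ?_)
  exact pullback.hom_ext (h₁.trans (pullback.lift_fst _ _ _).symm) (h₂.trans (pullback.lift_snd _ _ _).symm)

/-- Geometric reducedness in the fibre restricts to opens of source and target. -/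
theorem isGeomReducedAt_restrict {X' Y' : Scheme.{u}} {f : X ⟶ Y} {f' : X' ⟶ Y'} {j : X' ⟶ X}
    {i : Y' ⟶ Y} [IsOpenImmersion j] [Mono i] (w : f' ≫ i = j ≫ f) {z : X'}
    (hx : FBase.IsGeomReducedAt (f.fiberToSpecResidueField (f (j z))) (f.asFiber (j z))) :
    FBase.IsGeomReducedAt (f'.fiberToSpecResidueField (f' z)) (f'.asFiber z) := by
  intro K _ _ x' hx'
  have hzy : i (f' z) = f (j z) := by rw [← Scheme.Hom.comp_apply, w, Scheme.Hom.comp_apply]
  let c : Y'.residueField (f' z) ⟶ CommRingCat.of K :=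
    CommRingCat.ofHom (algebraMap (IsLocalRing.ResidueField (Y'.presheaf.stalk (f' z))) K)
  let bcs := Spec.map c
  let φ := (Y.residueFieldCongr hzy.symm).hom ≫ i.residueFieldMap (f' z) ≫ c
  let ψ := Spec.map φ
  let pt := bcs ≫ Y'.fromSpecResidueField (f' z) ≫ i
  have hψ : ψ ≫ Y.fromSpecResidueField (f (j z)) = pt := by
    simp only [ψ, φ, pt, bcs, Spec.map_comp, Category.assoc]
    rw [Scheme.residueFieldCongr_fromSpecResidueField, i.SpecMap_residueFieldMap_fromSpecResidueField]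
  let fk := f.fiberToSpecResidueField (f (j z))
  have h1 : IsPullback (pullback.fst fk ψ ≫ f.fiberι (f (j z))) (pullback.snd fk ψ) f pt :=
    hψ ▸ (IsPullback.of_hasPullback fk ψ).paste_horiz
      (IsPullback.of_hasPullback f (Y.fromSpecResidueField (f (j z))))
  let a := pullback.fst (f'.fiberToSpecResidueField (f' z)) bcs ≫ f'.fiberι (f' z)
  let b := pullback.snd (f'.fiberToSpecResidueField (f' z)) bcs
  have hU : IsPullback a b f' (bcs ≫ Y'.fromSpecResidueField (f' z)) :=
    (IsPullback.of_hasPullback (f'.fiberToSpecResidueField (f' z)) bcs).paste_horiz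
      (IsPullback.of_hasPullback f' (Y'.fromSpecResidueField (f' z)))
  have h2 : IsPullback a b (j ≫ f) pt := by
    rw [← w]
    refine IsPullback.of_isLimit' ⟨by simp only [pt]; rw [← Category.assoc, hU.w]; simp [Category.assoc]⟩
      (PullbackCone.IsLimit.mk _ (fun s => hU.lift s.fst s.snd ((cancel_mono i).mp
        (by simpa [pt, Category.assoc] using s.condition))) (fun s => hU.lift_fst _ _ _)
        (fun s => hU.lift_snd _ _ _) fun s m h₁ h₂ => ?_)
    exact hU.hom_ext (h₁.trans (hU.lift_fst _ _ _).symm) (h₂.trans (hU.lift_snd _ _ _).symm)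
  let m := h1.lift (a ≫ j) b (by rw [Category.assoc]; exact h2.w)
  have h3 : IsPullback a m j (pullback.fst fk ψ ≫ f.fiberι (f (j z))) :=
    IsPullback.of_bot (by rw [h1.lift_snd]; exact h2) (h1.lift_fst _ _ _).symm h1
  haveI : IsOpenImmersion m := MorphismProperty.of_isPullback (P := @IsOpenImmersion) h3 inferInstance
  let x₀ : ↥(pullback (f'.fiberToSpecResidueField (f' z)) bcs) := x'
  haveI : _root_.IsReduced ((pullback fk ψ).presheaf.stalk (m x₀)) := by
    refine @hx K _ φ.hom.toAlgebra (m x₀) ((f.fiberι (f (j z))).isEmbedding.injective ?_)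
    rw [f.fiberι_asFiber]
    refine (congrArg (fun k => (k : pullback (f'.fiberToSpecResidueField (f' z)) bcs ⟶ X) x₀) (h1.lift_fst (a ≫ j) b _)).trans ?_
    show j (f'.fiberι (f' z) (pullback.fst _ bcs x₀)) = j z
    rw [show pullback.fst _ bcs x₀ = f'.asFiber z from hx', f'.fiberι_asFiber]
  exact isReduced_of_injective (asIso (m.stalkMap x₀)).commRingCatIsoToRingEquiv.symm.toRingHom
    (asIso (m.stalkMap x₀)).commRingCatIsoToRingEquiv.symm.injective

theorem locallyConnectedSpace_fiber (f : X ⟶ Y) [LocallyOfFiniteType f] (y : Y) :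
    LocallyConnectedSpace ↥(f.fiber y) := by
  haveI : LocallyOfFiniteType (f.fiberToSpecResidueField y) :=
    MorphismProperty.pullback_snd (P := @LocallyOfFiniteType) _ _ inferInstance
  haveI := LocallyOfFiniteType.isLocallyNoetherian (f.fiberToSpecResidueField y)
  exact SchPoints.locallyConnectedSpace fun t => SchPoints.exists_noetherian_nhd t

/-- Points of a fibre component are linked inside quasi-compact opens. -/
theorem exists_isCompact_connected (f : X ⟶ Y) [LocallyOfFiniteType f] {y : Y} {a x : X} (ha : f a = y)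
    (hx : x ∈ connectedComponentIn (f ⁻¹' {y}) a) (B : X.Opens) (hB : ∀ z, f z = y → z ∈ B) :
    ∃ U : X.Opens, IsCompact (U : Set X) ∧ U ≤ B ∧ a ∈ U ∧ x ∈ connectedComponentIn (f ⁻¹' {y} ∩ U) a := by
  haveI := locallyConnectedSpace_fiber f y
  let ι := f.fiberι y
  obtain ⟨w₀, hw₀⟩ : a ∈ Set.range ι := (f.range_fiberι y).ge ha
  let R : Set ↥(f.fiber y) := {w | ∃ U : X.Opens, IsCompact (U : Set X) ∧ U ≤ B ∧ a ∈ U ∧
    ι w ∈ connectedComponentIn (f ⁻¹' {y} ∩ U) a}
  have hloc : ∀ w, ∃ N : Set ↥(f.fiber y), IsOpen N ∧ w ∈ N ∧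
      ((N ∩ R).Nonempty → N ⊆ R) ∧ (ι w = a → N ⊆ R) := by
    intro w
    obtain ⟨W, hW, hwW, hWB⟩ := exists_isAffineOpen_mem_and_subset (x := ι w) (U := B) (hB _ ((f.range_fiberι y).le ⟨w, rfl⟩))
    let N := connectedComponentIn (ι ⁻¹' (W : Set X)) w
    have hNc : _root_.IsPreconnected (ι '' N) := isPreconnected_connectedComponentIn.image _ ι.continuous.continuousOn
    have hwN : ι w ∈ ι '' N := ⟨w, mem_connectedComponentIn hwW, rfl⟩
    have hNsub : ι '' N ⊆ f ⁻¹' {y} ∩ W := by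
      rintro _ ⟨v, hv, rfl⟩
      exact ⟨(f.range_fiberι y).le ⟨v, rfl⟩, (connectedComponentIn_subset (ι ⁻¹' (W : Set X)) w hv : ι v ∈ W)⟩
    refine ⟨N, (W.2.preimage ι.continuous).connectedComponentIn, mem_connectedComponentIn hwW, ?_, ?_⟩
    · rintro ⟨v, hvN, U, hU, hUB, haU, hv⟩ v' hv'
      refine ⟨U ⊔ W, by rw [Opens.coe_sup]; exact hU.union hW.isCompact, sup_le hUB hWB, Or.inl haU, ?_⟩
      refine (IsPreconnected.union (ι v) hv (show ι v ∈ ι '' N from ⟨v, hvN, rfl⟩) isPreconnected_connectedComponentIn hNc).subset_connectedComponentIn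
        (Or.inl (mem_connectedComponentIn ⟨ha, haU⟩)) ?_ (Or.inr ⟨v', hv', rfl⟩)
      refine Set.union_subset ((connectedComponentIn_subset _ _).trans ?_) (hNsub.trans ?_)
      · exact Set.inter_subset_inter_right _ fun _ h => Or.inl h
      · exact Set.inter_subset_inter_right _ fun _ h => Or.inr h
    · intro hwa v' hv'
      exact ⟨W, hW.isCompact, hWB, hwa ▸ hwW,
        hNc.subset_connectedComponentIn (hwa ▸ hwN) hNsub ⟨v', hv', rfl⟩⟩
  have hR : IsClopen R := by
    refine ⟨⟨isOpen_iff_forall_mem_open.mpr fun w hw => ?_⟩, isOpen_iff_forall_mem_open.mpr fun w hw => ?_⟩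
    · obtain ⟨N, hN, hwN, h, -⟩ := hloc w
      exact ⟨N, fun v hv hvR => hw (h ⟨v, hv, hvR⟩ hwN), hN, hwN⟩
    · obtain ⟨N, hN, hwN, h, -⟩ := hloc w
      exact ⟨N, h ⟨w, hwN, hw⟩, hN, hwN⟩
  obtain ⟨N, -, hwN, -, h⟩ := hloc w₀
  rw [← hw₀, connectedComponentIn_fibre] at hx
  obtain ⟨w, hw, rfl⟩ := hx
  exact hR.connectedComponent_subset (h hw₀ hwN) hw

/-- Section components contain a neighbourhood of a universally open, geometrically reduced
component. -/
theorem component_subset_interior [IsLocallyNoetherian Y] (f : X ⟶ Y) [LocallyOfFiniteType f]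
    (s : Y ⟶ X) (hs : s ≫ f = 𝟙 Y) (y : Y)
    (h : ∀ x ∈ connectedComponentIn (f ⁻¹' {y}) (s y), EGA43.IsUnivOpenAt f x ∧
      FBase.IsGeomReducedAt (f.fiberToSpecResidueField (f x)) (f.asFiber x)) :
    connectedComponentIn (f ⁻¹' {y}) (s y) ⊆ interior (MoreMor.sectionComponents f s) := by
  intro x hx
  have hfs : f (s y) = y := by rw [← Scheme.Hom.comp_apply, hs]; rfl
  haveI : IsLocallyNoetherian X := LocallyOfFiniteType.isLocallyNoetherian f
  obtain ⟨U, hUc, -, hyU, hxU⟩ := exists_isCompact_connected f hfs hx ⊤ fun _ _ => trivial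
  obtain ⟨V, hV, hyV, hVU⟩ := exists_isAffineOpen_mem_and_subset (x := y) (U := s ⁻¹ᵁ U) hyU
  let g := U.ι ≫ f
  haveI : CompactSpace ↥(U : Scheme.{u}) := isCompact_iff_compactSpace.mp hUc
  haveI : QuasiCompact g := quasiCompact_of_compactSpace g
  let f' := g ∣_ V
  let j := (g ⁻¹ᵁ V).ι ≫ U.ι
  have w : f' ≫ V.ι = j ≫ f := by rw [morphismRestrict_ι, Category.assoc]
  let sU : (V : Scheme.{u}) ⟶ (U : Scheme.{u}) := IsOpenImmersion.lift U.ι (V.ι ≫ s) (by
    rintro _ ⟨t, rfl⟩
    rw [Scheme.Opens.range_ι, Scheme.Hom.comp_apply]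
    exact hVU t.2)
  have hsU : sU ≫ U.ι = V.ι ≫ s := IsOpenImmersion.lift_fac _ _ _
  let s' := (isPullback_morphismRestrict g V).flip.lift sU (𝟙 _)
    (by rw [← Category.assoc, hsU, Category.assoc, hs, Category.comp_id, Category.id_comp])
  have hs' : s' ≫ f' = 𝟙 _ := (isPullback_morphismRestrict g V).flip.lift_snd _ _ _
  have hs'j : s' ≫ j = V.ι ≫ s := by
    rw [← Category.assoc, (isPullback_morphismRestrict g V).flip.lift_fst, hsU]
  haveI : IsOpenImmersion j := inferInstance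
  have hjs : ∀ t, j (s' t) = s t.1 := fun t => by
    rw [← Scheme.Hom.comp_apply, hs'j, Scheme.Hom.comp_apply]; rfl
  have hfib : ∀ z, f (j z) = (f' z).1 := fun z => by
    rw [← Scheme.Hom.comp_apply, ← w, Scheme.Hom.comp_apply]; rfl
  have hrange : ∀ z, z ∈ Set.range j ↔ z ∈ U ∧ f z ∈ V := by
    intro z
    constructor
    · rintro ⟨t, rfl⟩
      exact ⟨(U.range_ι).le ⟨_, rfl⟩, t.2⟩
    · rintro ⟨h1, h2⟩
      exact ⟨⟨⟨z, h1⟩, h2⟩, rfl⟩
  have himg : ∀ (t : (V : Scheme.{u})) (z : ((g ⁻¹ᵁ V) : Scheme.{u})),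
      z ∈ connectedComponentIn (f' ⁻¹' {t}) (s' t) →
        j z ∈ connectedComponentIn (f ⁻¹' {t.1}) (s t.1) := by
    intro t z hz
    refine (isPreconnected_connectedComponentIn.image j j.continuous.continuousOn).subset_connectedComponentIn
      ⟨s' t, mem_connectedComponentIn ?_, hjs t⟩ ?_ ⟨z, hz, rfl⟩
    · exact (Scheme.Hom.comp_apply s' f' t).symm.trans (by rw [hs']; rfl)
    · rintro _ ⟨v, hv, rfl⟩
      exact (hfib v).trans (congrArg Subtype.val (connectedComponentIn_subset (f' ⁻¹' {t}) _ hv : f' v = t))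
  obtain ⟨z₀, rfl⟩ : x ∈ Set.range j := (hrange x).mpr ⟨(connectedComponentIn_subset _ _ hxU).2,
    ((connectedComponentIn_subset _ _ hxU).1 : f x = y).symm ▸ hyV⟩
  have hz₀ : z₀ ∈ connectedComponentIn (f' ⁻¹' {⟨y, hyV⟩}) (s' ⟨y, hyV⟩) := by
    let P := connectedComponentIn (f ⁻¹' {y} ∩ U) (s y)
    have hP : P ⊆ Set.range j := fun p hp => (hrange p).mpr ⟨(connectedComponentIn_subset _ _ hp).2,
      ((connectedComponentIn_subset _ _ hp).1 : f p = y).symm ▸ hyV⟩
    have hpre : _root_.IsPreconnected (j ⁻¹' P) := by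
      rw [← j.isEmbedding.isInducing.isPreconnected_image, Set.image_preimage_eq_of_subset hP]
      exact isPreconnected_connectedComponentIn
    refine hpre.subset_connectedComponentIn ?_ ?_ hxU
    · show j (s' ⟨y, hyV⟩) ∈ P
      rw [hjs]
      exact mem_connectedComponentIn ⟨hfs, hyU⟩
    · intro v hv
      exact Subtype.ext ((hfib v).symm.trans (connectedComponentIn_subset _ _ hv).1)
  haveI : IsLocallyNoetherian (V : Scheme.{u}) := isLocallyNoetherian_of_isOpenImmersion V.ι
  haveI : CompactSpace ↥(V : Scheme.{u}) := isCompact_iff_compactSpace.mp hV.isCompact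
  haveI : IsLocallyNoetherian ((g ⁻¹ᵁ V) : Scheme.{u}) := LocallyOfFiniteType.isLocallyNoetherian f'
  haveI : CompactSpace ↥((g ⁻¹ᵁ V) : Scheme.{u}) := QuasiCompact.compactSpace_of_compactSpace f'
  haveI : IsNoetherian ((g ⁻¹ᵁ V) : Scheme.{u}) := {}
  have hE : MoreMor.sectionComponents f' s' ∈ nhds z₀ := by
    refine ConstrLib.mem_nhds_of_forall_irreducible fun F hF hFi hz₀F => ?_
    refine ConstrLib.exists_open_subset_of_dense_constructible hFi
      (isConstructible_sectionComponents f' s' hs') ?_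
    obtain ⟨ξ, hξ⟩ := QuasiSober.sober hFi hF
    have hξE : ξ ∈ MoreMor.sectionComponents f' s' := by
      refine Generize.mem_sectionComponents_of_specializes f' s' hs' ⟨y, hyV⟩ (fun v hv => ?_) hz₀
        (hξ.specializes hz₀F)
      exact ⟨isUnivOpenAt_restrict w (h _ (himg _ v hv)).1,
        isGeomReducedAt_restrict w (h _ (himg _ v hv)).2⟩
    exact hξ.def.symm.subset.trans (closure_mono (Set.singleton_subset_iff.mpr ⟨hξE, hξ.mem⟩))
  refine mem_interior_iff_mem_nhds.mpr (Filter.mem_of_superset (j.isOpenMap.image_mem_nhds hE) ?_)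
  rintro _ ⟨v, hv, rfl⟩
  show j v ∈ connectedComponentIn (f ⁻¹' {f (j v)}) (s (f (j v)))
  rw [hfib]
  exact himg _ v hv

end Groth.Agent.SecComp
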