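import Groth.Agent.SecComp.GeomNear
import Groth.Agent.ConsPairLib.Loci
import Groth.Agent.ConstrLib.Basic
import Groth.Agent.ProConsPre.Basic

/-! # Section components are locally constructible (EGA IV 9.7.12) -/

set_option autoImplicit false

universe u

open AlgebraicGeometry CategoryTheory Limits TopologicalSpace Topology

namespace Groth.Agent.SecComp

variable {X Y : Scheme.{u}}

/-- Over a Noetherian source the section components are constructible. -/
theorem isConstructible_sectionComponents (f : X ⟶ Y) (s : Y ⟶ X) (hs : s ≫ f = 𝟙 Y)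
    [LocallyOfFiniteType f] [QuasiCompact f] [NoetherianSpace X] :
    IsConstructible (MoreMor.sectionComponents f s) := by
  let E := MoreMor.sectionComponents f s
  suffices H : ∀ F : Set X, IsClosed F → IsConstructible (E ∩ F) by simpa using H Set.univ isClosed_univ
  intro F hF
  refine ConstrLib.irreducible_induction (P := fun F => IsConstructible (E ∩ F)) (by simp)
    (fun A B _ _ hA hB => by simp only [Set.inter_union_distrib_left]; exact hA.union hB) ?_ hF
  intro F hF hFi ih
  let ξ := hFi.genericPoint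
  have hξ : IsGenericPoint ξ F := hF.closure_eq ▸ hFi.isGenericPoint_genericPoint_closure
  obtain ⟨V, hV, hyV, hVo, hcl⟩ := exists_nbhd_isClopen f s hs (f ξ)
  obtain ⟨O, hO, hOV⟩ := isOpen_induced_iff.mp hVo
  have hfF : ∀ x ∈ F, f x ∈ closure {f ξ} := fun x hx =>
    specializes_iff_mem_closure.mp ((hξ.specializes hx).map f.continuous)
  have hOF : ∀ x ∈ F, (f x ∈ O ↔ f x ∈ V) := fun x hx =>
    Set.ext_iff.mp hOV ⟨f x, hfF x hx⟩
  let U : Set X := f ⁻¹' O
  have hU : IsOpen U := hO.preimage f.continuous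
  have hξU : ξ ∈ U ∩ F := ⟨(hOF ξ hξ.mem).mpr hyV, hξ.mem⟩
  have hUF : U ∩ F ⊆ f ⁻¹' V := fun x hx => (hOF x hx.2).mp hx.1
  have hpre : _root_.IsPreconnected (U ∩ F) := by
    refine (isIrreducible_of_mem_of_subset_closure hξU ?_).isConnected.isPreconnected
    exact Set.inter_subset_right.trans hξ.def.ge
  have hpre' : _root_.IsPreconnected (Subtype.val ⁻¹' (U ∩ F) : Set ↑(f ⁻¹' V)) := by
    rw [← IsInducing.subtypeVal.isPreconnected_image, Set.image_preimage_eq_inter_range,
      Subtype.range_coe, Set.inter_eq_left.mpr hUF]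
    exact hpre
  have hloc : IsConstructible (E ∩ (U ∩ F)) := by
    by_cases h : (E ∩ (U ∩ F)).Nonempty
    · obtain ⟨x, hxE, hx⟩ := h
      have hsub := hpre'.subset_isClopen hcl ⟨⟨x, hUF hx⟩, hx, hxE⟩
      rw [Set.inter_eq_right.mpr (show U ∩ F ⊆ E from fun z hz => hsub (a := ⟨z, hUF hz⟩) hz)]
      exact (ConstrLib.isConstructible_of_isOpen hU).inter (ConstrLib.isConstructible_of_isClosed hF)
    · rw [Set.not_nonempty_iff_eq_empty.mp h]
      exact IsConstructible.empty
  have hrest := ih (F \ U) (hF.sdiff hU) (ConstrLib.sdiff_open_ssubset ⟨ξ, hξU⟩)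
  convert hloc.union hrest using 1
  rw [← Set.inter_union_distrib_left]
  congr 1
  ext x
  simp only [Set.mem_union, Set.mem_inter_iff, Set.mem_diff]
  tauto

/-- Over a cofiltered limit of Noetherian affine schemes the section components are constructible. -/
theorem isLocallyConstructible_of_limit {I : Type u} [SmallCategory I] [IsCofiltered I]
    {D : I ⥤ Scheme.{u}} {c : Cone D} (hc : IsLimit c) [∀ i, IsAffine (D.obj i)]
    [∀ i, IsNoetherian (D.obj i)] [IsAffine c.pt] (f : X ⟶ c.pt) (s : c.pt ⟶ X) (hs : s ≫ f = 𝟙 c.pt)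
    [LocallyOfFinitePresentation f] [QuasiCompact f] [QuasiSeparated f] :
    IsLocallyConstructible (MoreMor.sectionComponents f s) := by
  haveI := QuasiCompact.compactSpace_of_compactSpace f
  haveI := quasiSeparatedSpace_of_quasiSeparated f
  obtain ⟨i₀, X₁, u₁, g₁, a₁, b₁, c₁, s₁⟩ := LimLib.hasModel hc f
  haveI : ∀ (i j : I) (a : i ⟶ j), IsAffineHom (D.map a) := fun i j a => inferInstance
  haveI := b₁
  haveI := a₁
  haveI := c₁
  haveI : IsIso (𝟙 c.pt) := IsIso.id c.pt
  have s₀ : IsPullback (c.π.app i₀) (𝟙 c.pt) (𝟙 (D.obj i₀)) (c.π.app i₀) :=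
    IsPullback.of_vert_isIso ⟨(Category.id_comp _).trans (Category.comp_id _).symm |>.symm⟩
  obtain ⟨j, gj, qXj, qYj, hgj, hYj, hsq⟩ :=
    ConsPairLib.exists_stage_hom D c hc i₀ (𝟙 (D.obj i₀)) u₁ s₀ s₁ s hs
  haveI := quasiCompact_of_compactSpace u₁
  let uj := pullback.snd (𝟙 (D.obj i₀)) (D.map j.hom)
  let vj := pullback.snd u₁ (D.map j.hom)
  haveI : IsIso uj := inferInstance
  let σ : D.obj j.left ⟶ pullback u₁ (D.map j.hom) := inv uj ≫ gj
  have hσ : σ ≫ vj = 𝟙 _ := by rw [Category.assoc, hgj, IsIso.inv_hom_id]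
  have hq : qXj = c.π.app j.left ≫ inv uj := by
    rw [IsIso.eq_comp_inv]
    show qXj ≫ pullback.snd (𝟙 (D.obj i₀)) (D.map j.hom) = _
    rw [← hgj, ← Category.assoc, hsq.w, Category.assoc, hYj.w, ← Category.assoc, hs]
    exact Category.id_comp _
  have hσs : s ≫ qYj = c.π.app j.left ≫ σ := by
    rw [← hsq.w, hq, Category.assoc]
  haveI : LocallyOfFiniteType vj := inferInstance
  haveI : QuasiCompact vj := inferInstance
  haveI : IsLocallyNoetherian (pullback u₁ (D.map j.hom)) := LocallyOfFiniteType.isLocallyNoetherian vj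
  haveI : CompactSpace ↥(pullback u₁ (D.map j.hom)) := QuasiCompact.compactSpace_of_compactSpace vj
  haveI : IsNoetherian (pullback u₁ (D.map j.hom)) := {}
  rw [preimage_sectionComponents vj σ hσ f qYj (c.π.app j.left) hYj s hs hσs]
  exact ProConsPre.isLocallyConstructible_preimage qYj
    (isConstructible_sectionComponents vj σ hσ).isLocallyConstructible

theorem isLocallyConstructible_sectionComponents (f : X ⟶ Y) (s : Y ⟶ X) (hs : s ≫ f = 𝟙 Y)
    [LocallyOfFinitePresentation f] [QuasiCompact f] [QuasiSeparated f] :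
    IsLocallyConstructible (MoreMor.sectionComponents f s) := by
  refine IsLocallyConstructible.of_isOpenCover
    (U := fun V : Y.affineOpens => f ⁻¹ᵁ (V : Y.Opens))
    (TopologicalSpace.IsOpenCover.comap (iSup_affineOpens_eq_top Y) _) fun V => ?_
  obtain ⟨I, _, _, D, c, e, ⟨hc⟩, _, _⟩ := ConsPairLib.exists_noetherian_limit Γ(Y, V)
  haveI : IsAffine c.pt := .of_isIso e.hom
  let i : c.pt ≅ ((V : Y.Opens) : Scheme.{u}) := e ≪≫ V.2.isoSpec.symm
  let f' : ((f ⁻¹ᵁ (V : Y.Opens)) : Scheme.{u}) ⟶ c.pt := (f ∣_ (V : Y.Opens)) ≫ i.inv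
  have hc' : IsPullback (f ⁻¹ᵁ (V : Y.Opens)).ι f' f (i.hom ≫ (V : Y.Opens).ι) :=
    (isPullback_morphismRestrict f (V : Y.Opens)).flip.of_iso (Iso.refl _) (Iso.refl _) i.symm
      (Iso.refl _) (by simp) (by simp [f']) (by simp) (by simp)
  haveI : LocallyOfFinitePresentation f' := MorphismProperty.of_isPullback hc' ‹_›
  haveI : QuasiCompact f' := MorphismProperty.of_isPullback hc' ‹_›
  haveI : QuasiSeparated f' := MorphismProperty.of_isPullback hc' ‹_›
  let s' : c.pt ⟶ ((f ⁻¹ᵁ (V : Y.Opens)) : Scheme.{u}) :=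
    hc'.lift ((i.hom ≫ (V : Y.Opens).ι) ≫ s) (𝟙 _) (by rw [Category.assoc, hs, Category.comp_id, Category.id_comp])
  have h := isLocallyConstructible_of_limit hc f' s' (hc'.lift_snd _ _ _)
  rw [preimage_sectionComponents f s hs f' _ _ hc' s' (hc'.lift_snd _ _ _) (hc'.lift_fst _ _ _)] at h
  exact h

end Groth.Agent.SecComp
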