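import Mathlib.Topology.Irreducible
import Mathlib.Topology.Connected.Clopen
import Mathlib.SetTheory.Cardinal.Finite
import Mathlib.Data.Set.Card
import Mathlib.Logic.Relation

/-! # Finite covers by irreducible closed sets: components and their incidence graph -/

set_option autoImplicit false

universe u v

open Relation

namespace Groth.Agent.SecComp

variable {T : Type u} [TopologicalSpace T] {ι : Type v} {Z : ι → Set T}

/-- The incidence relation of a family of sets. -/
def Meet (Z : ι → Set T) (i j : ι) : Prop := (Z i ∩ Z j).Nonempty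

/-- A finite family of closed irreducible sets, none inside another, covering the space. -/
structure IsCompCover (Z : ι → Set T) : Prop where
  finite : Finite ι
  isClosed : ∀ i, IsClosed (Z i)
  irred : ∀ i, IsIrreducible (Z i)
  cover : ∀ x, ∃ i, x ∈ Z i
  eq_of_subset : ∀ i j, Z i ⊆ Z j → i = j

/-- The irreducible components form such a family. -/
theorem isCompCover_irreducibleComponents (h : (irreducibleComponents T).Finite) :
    IsCompCover (fun C : irreducibleComponents T => (C : Set T)) where
  finite := h.to_subtype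
  isClosed C := isClosed_of_mem_irreducibleComponents _ C.2
  irred C := C.2.1
  cover x := ⟨⟨_, irreducibleComponent_mem_irreducibleComponents x⟩, mem_irreducibleComponent⟩
  eq_of_subset C D hCD := Subtype.ext (subset_antisymm hCD (C.2.2 D.2.1 hCD))

namespace IsCompCover

variable (hZ : IsCompCover Z)
include hZ

theorem exists_subset {S : Set T} (hS : IsIrreducible S) : ∃ i, S ⊆ Z i := by
  haveI := hZ.finite
  haveI := Fintype.ofFinite ι
  classical
  obtain ⟨z, hz, hSz⟩ := isIrreducible_iff_sUnion_isClosed.mp hS (Finset.univ.image Z)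
    (fun z hz => by obtain ⟨i, -, rfl⟩ := Finset.mem_image.mp hz; exact hZ.isClosed i)
    (fun x _ => by
      obtain ⟨i, hi⟩ := hZ.cover x
      exact ⟨Z i, by simp, hi⟩)
  obtain ⟨i, -, rfl⟩ := Finset.mem_image.mp hz
  exact ⟨i, hSz⟩

theorem injective : Function.Injective Z := fun i j h => hZ.eq_of_subset i j h.le

theorem irreducibleComponents_eq : irreducibleComponents T = Set.range Z := by
  ext S
  constructor
  · intro hS
    obtain ⟨i, hi⟩ := hZ.exists_subset hS.1
    exact ⟨i, (subset_antisymm hi (hS.2 (hZ.irred i) hi)).symm⟩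
  · rintro ⟨i, rfl⟩
    refine ⟨hZ.irred i, fun S hS hle => ?_⟩
    obtain ⟨j, hj⟩ := hZ.exists_subset hS
    exact hj.trans (hZ.eq_of_subset i j (hle.trans hj) ▸ le_rfl)

theorem encard_irreducibleComponents : (irreducibleComponents T).encard = ENat.card ι := by
  rw [hZ.irreducibleComponents_eq, ← Set.image_univ, hZ.injective.encard_image, Set.encard_univ]

theorem mem_connectedComponent_of_eqvGen {i j : ι} (h : EqvGen (Meet Z) i j) {x y : T}
    (hx : x ∈ Z i) (hy : y ∈ Z j) : y ∈ connectedComponent x := by
  induction h generalizing x y with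
  | rel a b hab =>
    obtain ⟨w, hwa, hwb⟩ := hab
    have h1 := (hZ.irred a).isConnected.isPreconnected.subset_connectedComponent hx hwa
    have h2 := (hZ.irred b).isConnected.isPreconnected.subset_connectedComponent hwb hy
    rwa [connectedComponent_eq h1]
  | refl a => exact (hZ.irred a).isConnected.isPreconnected.subset_connectedComponent hx hy
  | symm a b _ ih =>
    rw [← connectedComponent_eq (ih hy hx)]
    exact mem_connectedComponent
  | trans a b c _ _ ih₁ ih₂ =>
    obtain ⟨w, hw⟩ := (hZ.irred b).nonempty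
    rw [connectedComponent_eq (ih₁ hx hw)]
    exact ih₂ hw hy

omit hZ in
/-- The union of the sets linked to the `i`-th one. -/
def linked (Z : ι → Set T) (i : ι) : Set T := ⋃ j ∈ {j | EqvGen (Meet Z) i j}, Z j

theorem isClopen_linked (i : ι) : IsClopen (linked Z i) := by
  haveI := hZ.finite
  refine ⟨(Set.toFinite _).isClosed_biUnion fun j _ => hZ.isClosed j, ?_⟩
  have : (linked Z i)ᶜ = ⋃ j ∈ {j | EqvGen (Meet Z) i j}ᶜ, Z j := by
    ext x
    constructor
    · intro hx
      obtain ⟨j, hj⟩ := hZ.cover x
      exact Set.mem_biUnion (x := j) (fun h => hx (Set.mem_biUnion h hj)) hj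
    · intro hx hx'
      obtain ⟨j, hij, hj⟩ := Set.mem_iUnion₂.mp hx
      obtain ⟨k, hik, hk⟩ := Set.mem_iUnion₂.mp hx'
      exact hij (EqvGen.trans _ _ _ hik (EqvGen.rel _ _ ⟨x, hk, hj⟩))
  rw [← isClosed_compl_iff, this]
  exact (Set.toFinite _).isClosed_biUnion fun j _ => hZ.isClosed j

theorem connectedComponent_eq_linked {i : ι} {x : T} (hx : x ∈ Z i) :
    connectedComponent x = linked Z i := by
  refine subset_antisymm ((hZ.isClopen_linked i).connectedComponent_subset
    (Set.mem_biUnion (EqvGen.refl i) hx)) fun y hy => ?_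
  obtain ⟨j, hij, hj⟩ := Set.mem_iUnion₂.mp hy
  exact hZ.mem_connectedComponent_of_eqvGen hij hx hj

theorem card_connectedComponents : ENat.card (ConnectedComponents T) = ENat.card (Quot (Meet Z)) := by
  choose w hw using fun i => (hZ.irred i).nonempty
  let φ : Quot (Meet Z) → ConnectedComponents T := Quot.lift (fun i => ConnectedComponents.mk (w i))
    fun i j h => (ConnectedComponents.coe_eq_coe'.mpr
      (hZ.mem_connectedComponent_of_eqvGen (EqvGen.rel _ _ h) (hw i) (hw j))).symm
  refine (ENat.card_congr (Equiv.ofBijective φ ⟨?_, ?_⟩)).symm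
  · rintro ⟨i⟩ ⟨j⟩ h
    have h' : w i ∈ connectedComponent (w j) := ConnectedComponents.coe_eq_coe'.mp h
    rw [hZ.connectedComponent_eq_linked (hw j)] at h'
    obtain ⟨k, hjk, hk⟩ := Set.mem_iUnion₂.mp h'
    exact Quot.eqvGen_sound (EqvGen.trans _ _ _ (EqvGen.rel _ _ ⟨w i, hw i, hk⟩) (EqvGen.symm _ _ hjk))
  · intro c
    obtain ⟨x, rfl⟩ := ConnectedComponents.surjective_coe c
    obtain ⟨i, hi⟩ := hZ.cover x
    exact ⟨Quot.mk _ i, ConnectedComponents.coe_eq_coe'.mpr
      (hZ.mem_connectedComponent_of_eqvGen (EqvGen.refl i) hi (hw i))⟩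

end IsCompCover

end Groth.Agent.SecComp
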