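import Groth.Agent.SecComp.CompCover
import Groth.Agent.GeomSpread.Scheme
import Groth.Agent.Wt.GenFibCount
import Groth.Agent.FBase.BC
import Groth.Agent.FlatMor.GeomDescent
import Groth.Agent.RedSub.Basic
import Mathlib.AlgebraicGeometry.Noetherian
import Mathlib.AlgebraicGeometry.FunctionField

/-! # Geometric components spread out from a generic point with algebraically closed residue field -/

set_option autoImplicit false

universe u

open AlgebraicGeometry CategoryTheory Limits TopologicalSpace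

namespace Groth.Agent.SecComp

theorem isIrreducible_preimage_of_isEmbedding {α β : Type*} [TopologicalSpace α] [TopologicalSpace β]
    {f : α → β} (hf : Topology.IsEmbedding f) {S : Set β} (hS : IsIrreducible S) (hsub : S ⊆ Set.range f) :
    IsIrreducible (f ⁻¹' S) := by
  refine ⟨?_, ?_⟩
  · obtain ⟨x, hx⟩ := hS.nonempty
    obtain ⟨a, rfl⟩ := hsub hx
    exact ⟨a, hx⟩
  · intro u v hu hv hSu hSv
    obtain ⟨u', hu', rfl⟩ := hf.isInducing.isOpen_iff.mp hu
    obtain ⟨v', hv', rfl⟩ := hf.isInducing.isOpen_iff.mp hv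
    obtain ⟨x, hx, hxu, hxv⟩ := hS.isPreirreducible u' v' hu' hv'
      (let ⟨a, h1, h2⟩ := hSu; ⟨f a, h1, h2⟩) (let ⟨a, h1, h2⟩ := hSv; ⟨f a, h1, h2⟩)
    obtain ⟨a, rfl⟩ := hsub hx
    exact ⟨a, hx, hxu, hxv⟩

theorem isIrreducible_of_mem_of_subset_closure {α : Type*} [TopologicalSpace α] {z : α} {S : Set α}
    (hz : z ∈ S) (hS : S ⊆ closure {z}) : IsIrreducible S := by
  refine ⟨⟨z, hz⟩, fun u v hu hv => ?_⟩
  rintro ⟨x, hx, hxu⟩ ⟨y, hy, hyv⟩
  exact ⟨z, hz, (specializes_iff_mem_closure.mpr (hS hx)).mem_open hu hxu,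
    (specializes_iff_mem_closure.mpr (hS hy)).mem_open hv hyv⟩

variable {A : CommRingCat.{u}} [IsDomain A] {X : Scheme.{u}} (u : X ⟶ Spec A)

variable (A) in
/-- The geometric generic point, for algebraically closed fraction field. -/
noncomputable abbrev fracPt : Spec (CommRingCat.of (FractionRing A)) ⟶ Spec A :=
  Spec.map (CommRingCat.ofHom (algebraMap A (FractionRing A)))

theorem isPreimmersion_fracPt : IsPreimmersion (fracPt A) :=
  IsPreimmersion.of_isLocalization (nonZeroDivisors A)

theorem range_fracPt : Set.range (fracPt A) = {genericPoint (Spec A)} := by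
  have h : ∀ t, fracPt A t = genericPoint (Spec A) := fun t => by
    rw [AlgebraicGeometry.genericPoint_eq_bot_of_affine]
    refine PrimeSpectrum.ext ?_
    show t.asIdeal.comap (algebraMap A (FractionRing A)) = ⊥
    rw [(eq_bot_or_eq_top t.asIdeal).resolve_right t.isPrime.ne_top, ← RingHom.ker_eq_comap_bot]
    exact (RingHom.injective_iff_ker_eq_bot _).mp (IsFractionRing.injective A (FractionRing A))
  ext x
  refine ⟨?_, fun hx => ⟨IsLocalRing.closedPoint (FractionRing A), (h _).trans hx.symm⟩⟩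
  rintro ⟨t, rfl⟩
  exact h t

theorem range_fst_fracPt : Set.range (pullback.fst u (fracPt A)) = u ⁻¹' {genericPoint (Spec A)} := by
  rw [Scheme.Pullback.range_fst, range_fracPt]

variable [LocallyOfFiniteType u] [QuasiCompact u] [IsAlgClosed (FractionRing A)]

/-- A closed set with irreducible generic part has irreducible geometric fibres near the generic
point. -/
theorem exists_opens_irreducible_preimage {C : Set X} (hC : IsClosed C)
    (hirr : IsIrreducible (C ∩ u ⁻¹' {genericPoint (Spec A)})) :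
    ∃ V : (Spec A).Opens, genericPoint (Spec A) ∈ V ∧ ∀ (L : Type u) [Field L]
      (pt : Spec (CommRingCat.of L) ⟶ Spec A), (∀ t, pt t ∈ V) →
        IsIrreducible (pullback.fst u pt ⁻¹' C) := by
  let ι := (Scheme.IdealSheafData.vanishingIdeal ⟨C, hC⟩).subschemeι
  have hι : Set.range ι = C := RedSub.range_vanishingIdeal_subschemeι _
  let g := ι ≫ u
  haveI := isPreimmersion_fracPt (A := A)
  haveI : IsPreimmersion (pullback.fst g (fracPt A)) := inferInstance
  haveI : IrreducibleSpace ↥(pullback g (fracPt A)) := by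
    have h1 : IsIrreducible (g ⁻¹' {genericPoint (Spec A)}) := by
      convert isIrreducible_preimage_of_isEmbedding ι.isEmbedding hirr
        (Set.inter_subset_left.trans hι.ge) using 1
      rw [Set.preimage_inter]
      conv_rhs => rw [show (ι ⁻¹' C : Set _) = Set.univ from (congrArg (ι ⁻¹' ·) hι.symm).trans (Set.preimage_range _), Set.univ_inter]
      rfl
    have h2 := isIrreducible_preimage_of_isEmbedding (pullback.fst g (fracPt A)).isEmbedding h1
      (range_fst_fracPt g).ge
    rw [← range_fst_fracPt g, Set.preimage_range] at h2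
    exact (irreducibleSpace_def _).mpr h2
  haveI : GeometricallyIrreducible (pullback.snd g (fracPt A)) :=
    FBase.BC.geometricallyIrreducible_of_isSepClosed _
  have hgen : GeometricallyIrreducible (g.fiberToSpecResidueField (genericPoint (Spec A))) := by
    have h3 := (FlatMor.GeomDescent.fibre_locus_baseChange (P := fun Z : Scheme.{u} => IrreducibleSpace Z)
      (fun π _ _ h => FlatMor.GeomDescent.irreducibleSpace_of_surjective π h)
      (IsPullback.of_hasPullback g (fracPt A))).le
      (show IsLocalRing.closedPoint (FractionRing A) ∈ _ from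
        GeometricallyIrreducible.geometrically_irreducibleSpace
          (f := (pullback.snd g (fracPt A)).fiberToSpecResidueField _))
    have e : fracPt A (IsLocalRing.closedPoint (FractionRing A)) = genericPoint (Spec A) :=
      (range_fracPt (A := A)).le ⟨_, rfl⟩
    rw [Set.mem_preimage, e] at h3
    exact ⟨h3⟩
  obtain ⟨V, ⟨v, hv⟩, hV⟩ := GeomSpread.exists_geometricallyIrreducible g hgen
  refine ⟨V, (genericPoint_specializes v).mem_open V.2 hv, fun L _ pt hpt => ?_⟩
  let ptV := IsOpenImmersion.lift V.ι pt (by rintro _ ⟨t, rfl⟩; rw [Scheme.Opens.range_ι]; exact hpt t)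
  have hptV : ptV ≫ V.ι = pt := IsOpenImmersion.lift_fac _ _ _
  have h4 : IsPullback (pullback.fst (g ∣_ V) ptV ≫ (g ⁻¹ᵁ V).ι) (pullback.snd (g ∣_ V) ptV) g pt :=
    hptV ▸ (IsPullback.of_hasPullback (g ∣_ V) ptV).paste_horiz (isPullback_morphismRestrict g V).flip
  haveI hP : IrreducibleSpace ↥(pullback (g ∣_ V) ptV) :=
    hV.geometrically_irreducibleSpace ptV _ _ (IsPullback.of_hasPullback _ _)
  let m : pullback (g ∣_ V) ptV ⟶ pullback u pt :=
    pullback.lift ((pullback.fst (g ∣_ V) ptV ≫ (g ⁻¹ᵁ V).ι) ≫ ι) (pullback.snd (g ∣_ V) ptV)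
      (by rw [Category.assoc]; exact h4.w)
  have h5 : IsPullback (pullback.fst (g ∣_ V) ptV ≫ (g ⁻¹ᵁ V).ι) m ι (pullback.fst u pt) := by
    refine IsPullback.of_bot ?_ (pullback.lift_fst _ _ _).symm (IsPullback.of_hasPullback u pt)
    rw [pullback.lift_snd]
    exact h4
  have h6 : Set.range m = pullback.fst u pt ⁻¹' C := by
    ext z
    constructor
    · rintro ⟨t, rfl⟩
      exact hι.le ⟨_, congrArg (fun k => (k : _ ⟶ X) t) h5.w⟩
    · intro hz
      obtain ⟨w, hw⟩ := hι.ge hz
      obtain ⟨t, -, ht⟩ := Scheme.exists_preimage_of_isPullback h5 w z hw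
      exact ⟨t, ht⟩
  rw [← h6, ← Set.image_univ]
  exact (IrreducibleSpace.isIrreducible_univ _).image _ m.continuous.continuousOn

omit [IsAlgClosed (FractionRing A)] [LocallyOfFiniteType u] [QuasiCompact u] in
theorem mem_basicOpen_of_ne_zero {a : A} (ha : a ≠ 0) :
    genericPoint (Spec A) ∈ PrimeSpectrum.basicOpen a := by
  rw [AlgebraicGeometry.genericPoint_eq_bot_of_affine]
  exact fun h => ha h

omit [IsAlgClosed (FractionRing A)] [LocallyOfFiniteType u] [QuasiCompact u] in
theorem exists_pullback_point {L : Type u} [Field L] (pt : Spec (CommRingCat.of L) ⟶ Spec A) {z : X}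
    (hz : u z = pt (IsLocalRing.closedPoint L)) : ∃ w, pullback.fst u pt w = z := by
  obtain ⟨w, hw, -⟩ := Scheme.Pullback.exists_preimage_pullback z _ hz
  exact ⟨w, hw⟩

variable [Flat u] [LocallyOfFinitePresentation u] [CompactSpace X]

/-- Near the generic point, the geometric fibres have the components of the geometric generic fibre,
with the same incidences. -/
theorem exists_comp_cover :
    ∃ (V : (Spec A).Opens) (ι : Type u) (C : ι → Set X) (G : ι → ι → Prop),
      genericPoint (Spec A) ∈ V ∧ (∀ i, IsClosed (C i)) ∧ Finite ι ∧ (∀ x, ∃ i, x ∈ C i) ∧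
      ∀ (L : Type u) [Field L] (pt : Spec (CommRingCat.of L) ⟶ Spec A), (∀ t, pt t ∈ V) →
        IsCompCover (fun i => pullback.fst u pt ⁻¹' C i) ∧
          ∀ i j, Meet (fun i => pullback.fst u pt ⁻¹' C i) i j ↔ G i j := by
  classical
  let P := pullback u (fracPt A)
  let q := pullback.fst u (fracPt A)
  haveI := isPreimmersion_fracPt (A := A)
  haveI : IsPreimmersion q := inferInstance
  haveI : IsLocallyNoetherian P := LocallyOfFiniteType.isLocallyNoetherian (pullback.snd u (fracPt A))
  haveI : CompactSpace ↥P := QuasiCompact.compactSpace_of_compactSpace (pullback.snd u (fracPt A))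
  haveI : IsNoetherian P := {}
  have hfin := finite_irreducibleComponents_of_isNoetherian (X := P)
  have hZ := isCompCover_irreducibleComponents hfin
  haveI : Finite (irreducibleComponents P) := hfin.to_subtype
  let C : irreducibleComponents P → Set X := fun i => closure (q '' (i : Set P))
  have hqC : ∀ i, q ⁻¹' C i = (i : Set P) := fun i => by
    rw [← q.isEmbedding.closure_eq_preimage_closure_image,
      (isClosed_of_mem_irreducibleComponents _ i.2).closure_eq]
  have hη : ∀ z : X, u z = genericPoint (Spec A) → ∃ w, q w = z := fun z hz =>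
    (range_fst_fracPt u).ge hz
  have hqη : ∀ w, u (q w) = genericPoint (Spec A) := fun w => (range_fst_fracPt u).le ⟨w, rfl⟩
  have hcov : ∀ x, ∃ i, x ∈ C i := by
    have h0 := Wt.GenFib.eq_empty_of_isOpen u
      (W := (⋃ i, C i)ᶜ) (isClosed_iUnion_of_finite fun i => isClosed_closure).isOpen_compl
      (fun z hz hzη => by
        obtain ⟨w, rfl⟩ := hη z hzη
        obtain ⟨i, hi⟩ := hZ.cover w
        exact hz (Set.mem_iUnion.mpr ⟨i, (hqC i).ge hi⟩))
    intro x
    simpa using Set.eq_univ_iff_forall.mp (Set.compl_empty_iff.mp h0) x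
  have hirr : ∀ i, ∃ V : (Spec A).Opens, genericPoint (Spec A) ∈ V ∧ ∀ (L : Type u) [Field L]
      (pt : Spec (CommRingCat.of L) ⟶ Spec A), (∀ t, pt t ∈ V) →
        IsIrreducible (pullback.fst u pt ⁻¹' C i) := fun i => by
    refine exists_opens_irreducible_preimage u isClosed_closure ?_
    rw [← range_fst_fracPt u, ← Set.image_preimage_eq_inter_range, hqC]
    exact i.2.1.image _ q.continuous.continuousOn
  have hne : ∀ i, ∃ V : (Spec A).Opens, genericPoint (Spec A) ∈ V ∧ ∀ s ∈ V,
      ∃ z, u z = s ∧ ∀ j, z ∈ C j → j = i := fun i => by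
    let U : Set X := (⋃ j ∈ ({i}ᶜ : Set _), C j)ᶜ
    have hU : IsOpen U := ((Set.toFinite _).isClosed_biUnion fun j _ => isClosed_closure).isOpen_compl
    haveI : UniversallyOpen u := inferInstance
    obtain ⟨w, hwi, hw⟩ : ∃ w ∈ (i : Set P), ∀ j : irreducibleComponents P, w ∈ (j : Set P) → j = i := by
      by_contra hcon
      push Not at hcon
      obtain ⟨t, ht, hit⟩ := isIrreducible_iff_sUnion_isClosed.mp i.2.1
        (((@Finset.univ _ (Fintype.ofFinite (irreducibleComponents P))).erase i).image fun j : irreducibleComponents P => (j : Set P))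
        (fun z hz => by
          obtain ⟨j, -, rfl⟩ := Finset.mem_image.mp hz
          exact isClosed_of_mem_irreducibleComponents _ j.2)
        (fun w hw => by
          obtain ⟨j, hj, hji⟩ := hcon w hw
          exact ⟨_, Finset.mem_coe.mpr (Finset.mem_image_of_mem (fun k : irreducibleComponents P => (k : Set P))
            (Finset.mem_erase.mpr ⟨hji, @Finset.mem_univ _ (Fintype.ofFinite _) j⟩)), hj⟩)
      obtain ⟨j, hj, rfl⟩ := Finset.mem_image.mp ht
      exact (Finset.mem_erase.mp hj).1 (hZ.eq_of_subset i j hit).symm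
    refine ⟨⟨u '' U, u.isOpenMap _ hU⟩, ⟨q w, fun h => ?_, hqη w⟩, ?_⟩
    · obtain ⟨j, hj, hwj⟩ := Set.mem_iUnion₂.mp h
      exact hj (Set.mem_singleton_iff.mpr (hw j ((hqC j).le hwj)))
    · rintro _ ⟨z, hz, rfl⟩
      exact ⟨z, rfl, fun j hj => by_contra fun hji => hz (Set.mem_biUnion (x := j) hji hj)⟩
  have hmeet : ∀ p : irreducibleComponents P × irreducibleComponents P, ∃ V : (Spec A).Opens,
      genericPoint (Spec A) ∈ V ∧ ∀ (L : Type u) [Field L] (pt : Spec (CommRingCat.of L) ⟶ Spec A),
        (∀ t, pt t ∈ V) → (Meet (fun i => pullback.fst u pt ⁻¹' C i) p.1 p.2 ↔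
          ((p.1 : Set P) ∩ p.2).Nonempty) := by
    rintro ⟨i, j⟩
    by_cases h : ((i : Set P) ∩ j).Nonempty
    · obtain ⟨w, hwi, hwj⟩ := h
      obtain ⟨V, hV, hVL⟩ := exists_opens_irreducible_preimage u (isClosed_closure (s := {q w}))
        (isIrreducible_of_mem_of_subset_closure ⟨subset_closure rfl, hqη w⟩ Set.inter_subset_left)
      refine ⟨V, hV, fun L _ pt hpt => ⟨fun _ => ⟨w, hwi, hwj⟩, fun _ => ?_⟩⟩
      obtain ⟨z, hz⟩ := (hVL L pt hpt).nonempty
      refine ⟨z, ?_, ?_⟩
      · exact closure_minimal (Set.singleton_subset_iff.mpr (show q w ∈ C i from (hqC i).ge hwi)) isClosed_closure hz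
      · exact closure_minimal (Set.singleton_subset_iff.mpr (show q w ∈ C j from (hqC j).ge hwj)) isClosed_closure hz
    · obtain ⟨a, ha, hdis⟩ := Wt.GenFib.exists_open_disjoint u
        (Z := C i ∩ C j) (isClosed_closure.inter isClosed_closure) (fun z hz hzη => by
          obtain ⟨w, rfl⟩ := hη z hzη
          exact h ⟨w, (hqC i).le hz.1, (hqC j).le hz.2⟩)
      refine ⟨PrimeSpectrum.basicOpen a, mem_basicOpen_of_ne_zero ha, fun L _ pt hpt => iff_of_false ?_ h⟩
      rintro ⟨z, hz⟩
      refine hdis _ hz ?_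
      rw [← Scheme.Hom.comp_apply, pullback.condition, Scheme.Hom.comp_apply]
      exact hpt _
  choose V₁ hV₁ hirr using hirr
  choose V₂ hV₂ hne using hne
  choose V₃ hV₃ hmeet using hmeet
  refine ⟨⟨(⋂ i, (V₁ i : Set (Spec A))) ∩ (⋂ i, (V₂ i : Set (Spec A))) ∩ ⋂ p, (V₃ p : Set (Spec A)),
      ((isOpen_iInter_of_finite fun i => (V₁ i).2).inter (isOpen_iInter_of_finite fun i => (V₂ i).2)).inter
        (isOpen_iInter_of_finite fun i => (V₃ i).2)⟩,
    _, C, fun i j => ((i : Set P) ∩ j).Nonempty,
    ⟨⟨Set.mem_iInter.mpr hV₁, Set.mem_iInter.mpr hV₂⟩, Set.mem_iInter.mpr hV₃⟩,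
    fun i => isClosed_closure, inferInstance, hcov, fun L _ pt hpt => ?_⟩
  refine ⟨⟨inferInstance, fun i => isClosed_closure.preimage (pullback.fst u pt).continuous,
    fun i => hirr i L pt fun t => Set.mem_iInter.mp (hpt t).1.1 i,
    fun z => hcov _, fun i j hij => ?_⟩, fun i j => hmeet (i, j) L pt fun t => Set.mem_iInter.mp (hpt t).2 _⟩
  obtain ⟨z, hz, hzC⟩ := hne i _ (Set.mem_iInter.mp (hpt (IsLocalRing.closedPoint L)).1.2 i)
  obtain ⟨w, rfl⟩ := exists_pullback_point u pt hz
  obtain ⟨k, hk⟩ := hcov (pullback.fst u pt w)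
  obtain rfl := hzC k hk
  exact (hzC j (hij hk)).symm

end Groth.Agent.SecComp
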